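import Mathlib
import Cfsg.Agent.Lib.Helper22.BFDefs

/-!
# S4503 project (helper22), piece STRB: `Loc` implies `Str`
-/

set_option autoImplicit false
set_option maxHeartbeats 1600000

namespace Cfsg.Agent.Lib.Helper1.BFT

open Cfsg Cfsg.Agent.Lib.Helper22.BFD
open scoped ComplexConjugate

universe u

variable {G : Type u} [Group G] [Fintype G]

/-- the sum over a finite group of a function invariant under left translation by a subgroup `T`
is `|T|` times an integer -/
theorem strb_sum_dvd (T : Subgroup G) (h : G → ℤ) (hinv : ∀ τ ∈ T, ∀ n, h (τ * n) = h n) :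
    ∃ w : ℤ, ∑ n : G, h n = (Nat.card T : ℤ) * w := by
  classical
  obtain ⟨S, hS, -⟩ := Subgroup.exists_isComplement_right T 1
  haveI : Fintype ↥S := Fintype.ofFinite _
  let e : (↥(T : Set G)) × ↥S ≃ G := Equiv.ofBijective _ hS
  refine ⟨∑ s : S, h s, ?_⟩
  rw [← Equiv.sum_comp e h, Fintype.sum_prod_type]
  have h1 : ∀ (t : ↥(T : Set G)) (s : ↥S), h (e (t, s)) = h s := fun t s => hinv t.1 t.2 s.1
  have h2 : ∀ t : ↥(T : Set G), ∑ s : ↥S, h (e (t, s)) = ∑ s : ↥S, h s := fun t =>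
    Finset.sum_congr rfl (fun s _ => h1 t s)
  rw [Finset.sum_congr rfl (fun t _ => h2 t), Finset.sum_const, Finset.card_univ, nsmul_eq_mul,
    Nat.card_eq_fintype_card]
  rfl

theorem strb_pow_inj (p : ℕ) (z : G) (hz : orderOf z = p) {m m' : ℕ}
    (h : z ^ m = z ^ m') : (m : ZMod p) = (m' : ZMod p) := by
  rw [ZMod.natCast_eq_natCast_iff, ← hz]
  exact pow_eq_pow_iff_modEq.1 h

theorem strb_kappa_ne_zero (p : ℕ) [Fact p.Prime] (z : G) (hz : orderOf z = p) (κ : G → ZMod p)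
    {n : G} (h : n⁻¹ * z * n = z ^ (κ n).val) : κ n ≠ 0 := by
  intro h0
  rw [h0, ZMod.val_zero, pow_zero] at h
  have hz1 : z = 1 := by
    have h2 : z = n * (n⁻¹ * z * n) * n⁻¹ := by group
    rw [h2, h]
    group
  rw [hz1, orderOf_one] at hz
  exact (Fact.out : p.Prime).ne_one hz.symm

theorem strb_kappa_mul (p : ℕ) [Fact p.Prime] (z : G) (hz : orderOf z = p) (κ : G → ZMod p)
    {a b : G} (ha : a⁻¹ * z * a = z ^ (κ a).val) (hb : b⁻¹ * z * b = z ^ (κ b).val)
    (hab : (a * b)⁻¹ * z * (a * b) = z ^ (κ (a * b)).val) : κ (a * b) = κ a * κ b := by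
  have h2 : ∀ m : ℕ, b⁻¹ * z ^ m * b = (b⁻¹ * z * b) ^ m := by
    intro m
    induction m with
    | zero => simp
    | succ k ih => rw [pow_succ, pow_succ, ← ih]; group
  have h1 : (a * b)⁻¹ * z * (a * b) = z ^ ((κ b).val * (κ a).val) := by
    have h3 : (a * b)⁻¹ * z * (a * b) = b⁻¹ * (a⁻¹ * z * a) * b := by group
    rw [h3, ha, h2, hb, ← pow_mul]
  rw [hab] at h1
  have h4 := strb_pow_inj p z hz h1
  rw [ZMod.natCast_zmod_val] at h4
  rw [h4, Nat.cast_mul, ZMod.natCast_zmod_val, ZMod.natCast_zmod_val, mul_comm]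

theorem strb_sum_ne_zero_mul (p : ℕ) [Fact p.Prime] (c : ZMod p) (hc : c ≠ 0) (g : ZMod p → ℂ) :
    ∑ t ∈ Finset.univ.filter (fun t : ZMod p => t ≠ 0), g (c * t)
      = ∑ t ∈ Finset.univ.filter (fun t : ZMod p => t ≠ 0), g t := by
  apply Finset.sum_nbij' (fun t => c * t) (fun t => c⁻¹ * t)
  · intro t ht
    simp only [Finset.mem_filter, Finset.mem_univ, true_and] at ht ⊢
    exact mul_ne_zero hc ht
  · intro t ht
    simp only [Finset.mem_filter, Finset.mem_univ, true_and] at ht ⊢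
    exact mul_ne_zero (inv_ne_zero hc) ht
  · intro t _
    rw [← mul_assoc, inv_mul_cancel₀ hc, one_mul]
  · intro t _
    rw [← mul_assoc, mul_inv_cancel₀ hc, one_mul]
  · intro t _
    rfl

theorem strb_sum_mem (N : Subgroup G) [DecidablePred (· ∈ N)] (c : ℂ) :
    ∑ n : G, (if n ∈ N then c else 0) = (Nat.card N : ℂ) * c := by
  rw [← Finset.sum_filter, Finset.sum_const, nsmul_eq_mul]
  congr 1
  rw [Nat.card_eq_fintype_card, Fintype.card_subtype]

/-- PIECE STRB -/
theorem str_of_loc (p : ℕ) [Fact p.Prime] (ζ : ℂ) (hζ : IsPrimitiveRoot ζ p) (z : G)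
    (hz : orderOf z = p)
    (hfidx : (Subgroup.centralizer ({z} : Set G)).relIndex
      (Subgroup.normalizer ((Subgroup.zpowers z : Subgroup G) : Set G)) = (Ef p z).card)
    (χ : G → ℂ) (hloc : Loc p ζ z χ) : Str p ζ z χ := by
  classical
  obtain ⟨T, θ, D, κ, v, d, e, hCT, hTN, hκ, hD, hv, hd, hθ1, he, hφ, -, -, hDalt⟩ := hloc
  set N := Subgroup.normalizer ((Subgroup.zpowers z : Subgroup G) : Set G) with hN
  have hκ0 : ∀ n ∈ N, κ n ≠ 0 := fun n hn => strb_kappa_ne_zero p z hz κ (hκ n hn)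
  have hκmul : ∀ a ∈ N, ∀ b ∈ N, κ (a * b) = κ a * κ b := fun a ha b hb =>
    strb_kappa_mul p z hz κ (hκ a ha) (hκ b hb) (hκ (a * b) (N.mul_mem ha hb))
  -- expansion of `D (κ n * t)`
  have hDexp : ∀ n ∈ N, ∀ t : ZMod p,
      D (κ n * t) = ∑ u : ZMod p, (v (u * (κ n)⁻¹) : ℂ) * ζ ^ (u * t).val := by
    intro n hn t
    rw [hD]
    symm
    apply Fintype.sum_equiv (Equiv.mulRight₀ (κ n)⁻¹ (inv_ne_zero (hκ0 n hn)))
    intro u
    have h1 : (Equiv.mulRight₀ (κ n)⁻¹ (inv_ne_zero (hκ0 n hn))) u * (κ n * t) = u * t := by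
      show u * (κ n)⁻¹ * (κ n * t) = u * t
      rw [mul_assoc, ← mul_assoc (κ n)⁻¹, inv_mul_cancel₀ (hκ0 n hn), one_mul]
    rw [h1]
    rfl
  -- the integers `w`
  have hw' : ∀ u : ZMod p, ∃ w : ℤ,
      ∑ n : G, (if n ∈ N then v (u * (κ n)⁻¹) else 0) = (Nat.card T : ℤ) * w := by
    intro u
    apply strb_sum_dvd T
    intro τ hτ n
    have hτN : τ ∈ N := hTN hτ
    by_cases hn : n ∈ N
    · rw [if_pos (N.mul_mem hτN hn), if_pos hn, hκmul τ hτN n hn, mul_inv]
      have h1 := hv τ hτ ((κ τ)⁻¹ * (u * (κ n)⁻¹))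
      rw [← mul_assoc, mul_inv_cancel₀ (hκ0 τ hτN), one_mul] at h1
      rw [h1]
      congr 1
      ring
    · have hn' : τ * n ∉ N := by
        intro h
        apply hn
        have h2 : n = τ⁻¹ * (τ * n) := by group
        rw [h2]
        exact N.mul_mem (N.inv_mem hτN) h
      rw [if_neg hn', if_neg hn]
  choose w hw using hw'
  have hT0 : (Nat.card T : ℂ) ≠ 0 := by
    have : 0 < Nat.card T := Nat.card_pos
    exact_mod_cast this.ne'
  have hmain : ∀ t : ZMod p, (∑ n : G, if n ∈ N then D (κ n * t) * θ (n⁻¹ * 1 * n) else 0)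
      = (Nat.card T : ℂ) * ((d : ℂ) * ∑ u : ZMod p, (w u : ℂ) * ζ ^ (u * t).val) := by
    intro t
    have e1 : ∀ n : G, (if n ∈ N then D (κ n * t) * θ (n⁻¹ * 1 * n) else 0)
        = ∑ u : ZMod p, (((if n ∈ N then v (u * (κ n)⁻¹) else 0 : ℤ) : ℂ) *
            (ζ ^ (u * t).val * (d : ℂ))) := by
      intro n
      by_cases hn : n ∈ N
      · simp only [if_pos hn]
        rw [hDexp n hn t, show n⁻¹ * 1 * n = 1 by group, hθ1, Finset.sum_mul]
        apply Finset.sum_congr rfl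
        intro u _
        ring
      · simp only [if_neg hn]
        simp
    rw [Finset.sum_congr rfl (fun n _ => e1 n), Finset.sum_comm]
    have e2 : ∀ u : ZMod p, ∑ n : G, (((if n ∈ N then v (u * (κ n)⁻¹) else 0 : ℤ) : ℂ) *
            (ζ ^ (u * t).val * (d : ℂ)))
        = (Nat.card T : ℂ) * ((d : ℂ) * ((w u : ℂ) * ζ ^ (u * t).val)) := by
      intro u
      rw [← Finset.sum_mul, ← Int.cast_sum, hw u]
      push_cast
      ring
    rw [Finset.sum_congr rfl (fun u _ => e2 u), ← Finset.mul_sum, ← Finset.mul_sum]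
  have h1K : (1 : G) ∈ Kf p z := by
    unfold Kf
    simp only [Finset.mem_filter, Finset.mem_univ, true_and, one_mul, mul_one, orderOf_one,
      Nat.dvd_one]
    exact (Fact.out : p.Prime).ne_one
  have hval : ∀ t : ZMod p, t ≠ 0 →
      χ (z ^ t.val) = (d : ℂ) * ∑ u : ZMod p, (w u : ℂ) * ζ ^ (u * t).val := by
    intro t ht
    have h1 := hφ t ht 1 h1K
    rw [mul_one, hmain t] at h1
    exact mul_left_cancel₀ hT0 h1
  -- the sum over `t ≠ 0`
  have hcardN : (Nat.card N : ℂ) = (Nat.card T : ℂ) * (T.relIndex N : ℂ) := by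
    have h1 : Nat.card N = Nat.card T * T.relIndex N := by
      rw [← Subgroup.relIndex_bot_left, ← Subgroup.relIndex_bot_left,
        Subgroup.relIndex_mul_relIndex _ _ _ bot_le hTN]
    rw [h1, Nat.cast_mul]
  have hS : ∑ t ∈ Finset.univ.filter (fun t : ZMod p => t ≠ 0), χ (z ^ t.val)
      = (d : ℂ) * (T.relIndex N : ℂ) *
        ∑ t ∈ Finset.univ.filter (fun t : ZMod p => t ≠ 0), D t := by
    apply mul_left_cancel₀ hT0
    rw [Finset.mul_sum]
    have e1 : ∀ t ∈ Finset.univ.filter (fun t : ZMod p => t ≠ 0),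
        (Nat.card T : ℂ) * χ (z ^ t.val)
          = ∑ n : G, if n ∈ N then D (κ n * t) * (d : ℂ) else 0 := by
      intro t ht
      have ht0 : t ≠ 0 := (Finset.mem_filter.1 ht).2
      have h1 := hφ t ht0 1 h1K
      rw [mul_one] at h1
      rw [h1]
      apply Finset.sum_congr rfl
      intro n _
      by_cases hn : n ∈ N
      · rw [if_pos hn, if_pos hn, show n⁻¹ * 1 * n = 1 by group, hθ1]
      · rw [if_neg hn, if_neg hn]
    rw [Finset.sum_congr rfl e1, Finset.sum_comm]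
    have e2 : ∀ n : G, ∑ t ∈ Finset.univ.filter (fun t : ZMod p => t ≠ 0),
        (if n ∈ N then D (κ n * t) * (d : ℂ) else 0)
        = if n ∈ N then (∑ t ∈ Finset.univ.filter (fun t : ZMod p => t ≠ 0), D t) * (d : ℂ)
          else 0 := by
      intro n
      by_cases hn : n ∈ N
      · simp only [if_pos hn]
        rw [← Finset.sum_mul, strb_sum_ne_zero_mul p (κ n) (hκ0 n hn) D]
      · simp only [if_neg hn]
        simp
    rw [Finset.sum_congr rfl (fun n _ => e2 n), strb_sum_mem N, hcardN]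
    ring
  have hsP : sP p z χ = χ 1 + ∑ t ∈ Finset.univ.filter (fun t : ZMod p => t ≠ 0), χ (z ^ t.val) := by
    unfold sP
    rw [Finset.filter_ne', ← Finset.add_sum_erase Finset.univ _ (Finset.mem_univ (0 : ZMod p)),
      ZMod.val_zero, pow_zero]
  have hcard1 : ∑ t ∈ Finset.univ.filter (fun t : ZMod p => t ≠ 0), (1 : ℂ) = ((p - 1 : ℕ) : ℂ) := by
    rw [Finset.sum_const, Finset.filter_ne', Finset.card_erase_of_mem (Finset.mem_univ _),
      Finset.card_univ, ZMod.card, nsmul_eq_mul, mul_one]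
  have hre : T.relIndex N * e = (Ef p z).card := by
    rw [he, mul_comm, Subgroup.relIndex_mul_relIndex _ _ _ hCT hTN, hfidx]
  refine ⟨d, T.relIndex N, e, w, hd, hre, hval, ?_⟩
  rw [hsP, hS]
  rcases hDalt with h | h | h | h
  · left
    have h1 : ∑ t ∈ Finset.univ.filter (fun t : ZMod p => t ≠ 0), D t = ((p - 1 : ℕ) : ℂ) := by
      rw [← hcard1]
      apply Finset.sum_congr rfl
      intro t ht
      exact h t (Finset.mem_filter.1 ht).2
    rw [h1, Nat.cast_mul, Nat.cast_mul]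
  · right; left
    have h1 : ∑ t ∈ Finset.univ.filter (fun t : ZMod p => t ≠ 0), D t = -((p - 1 : ℕ) : ℂ) := by
      rw [← hcard1, ← Finset.sum_neg_distrib]
      apply Finset.sum_congr rfl
      intro t ht
      exact h t (Finset.mem_filter.1 ht).2
    rw [h1, Nat.cast_mul, Nat.cast_mul]
    ring
  · right; right; left
    rw [h, Nat.cast_mul, Nat.cast_mul]
    ring
  · right; right; right
    rw [h, Nat.cast_mul, Nat.cast_mul]
    ring

end Cfsg.Agent.Lib.Helper1.BFT
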