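import Cfsg.Agent.Lib.Helper15.BG12Defs3
import Cfsg.Agent.S1415

/-!
# B&G Section 12, piece N2 (for helper15): the derived subgroup of a complement of `M_σ` is abelian
-/

set_option autoImplicit false

open Cfsg Cfsg.Agent.Lib.Helper32 Cfsg.Agent.Lib.Helper32.BG10 Cfsg.Agent.Lib.Helper3.BG12 Cfsg.Agent.Lib.Helper15.BG12

namespace Cfsg.Agent.Lib.Helper1.BG12x

universe u

variable {G : Type u} [Group G] [Finite G]

theorem comm_compl_abelian (hG : IsMinSimpleOddOrder G) (hna : NilAb G) {M : Subgroup G} (hM : IsCoatom M) {E : Subgroup G} (hE : IsComplIn E (sigmaCore M) M) : IsMulCommutative ↥⁅E, E⁆ := by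
  have hnil : Group.IsNilpotent ↥⁅E, E⁆ := (Cfsg.Agent.S1415.result hG M hM E hE).1
  have hEE : ⁅E, E⁆ ≤ E := by
    rw [Subgroup.commutator_le]
    intro g₁ h₁ g₂ h₂
    exact E.mul_mem (E.mul_mem (E.mul_mem h₁ h₂) (E.inv_mem h₁)) (E.inv_mem h₂)
  refine hna M hM ⁅E, E⁆ (hEE.trans hE.1) hnil ?_
  intro r hr hrd hrσ
  have hall := sigma_hall hG (ut_of hG) (h2_of hG) (sigDer_of hG) hM
  have hσM : sigmaCore M ≤ M := hE.2.1
  have hcard : Nat.card M = Nat.card E * Nat.card (sigmaCore M) :=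
    Cfsg.Agent.Lib.Helper8.BG10.q12c_card_of_complIn hE
  have hrel : Nat.card M = Nat.card (sigmaCore M) * (sigmaCore M).relIndex M :=
    Cfsg.Agent.Lib.Helper30.card_eq_card_mul_relIndex hσM
  have hE' : (sigmaCore M).relIndex M = Nat.card E := by
    have h1 : Nat.card (sigmaCore M) * (sigmaCore M).relIndex M =
        Nat.card (sigmaCore M) * Nat.card E := by rw [← hrel, hcard, mul_comm]
    exact Nat.eq_of_mul_eq_mul_left Nat.card_pos h1
  have hrE : r ∣ Nat.card E := hrd.trans (Subgroup.card_dvd_of_le hEE)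
  apply hall.1.2.2 r hr hrσ
  rw [hE']
  exact hrE

end Cfsg.Agent.Lib.Helper1.BG12x
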