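import Cfsg.Agent.Lib.Helper1.Coprime

set_option autoImplicit false
set_option linter.unusedSectionVars false
set_option linter.style.haveILetI false
open Pointwise

namespace Cfsg.Agent.Lib.Helper1

universe u

section sylow
variable {G : Type u} [Group G] [Finite G]

/-- An element normalising `K` maps a Sylow subgroup of `K` to a `K`-conjugate. -/
theorem sylow_conj_of_mem_normalizer {p : ℕ} [Fact p.Prime] {K : Subgroup G} (P : Sylow p K)
    {g : G} (hg : g ∈ Subgroup.normalizer (K : Set G)) :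
    ∃ k ∈ K, MulAut.conj g • (P : Subgroup K).map K.subtype
      = MulAut.conj k • (P : Subgroup K).map K.subtype := by
  obtain ⟨P', hP'⟩ : ∃ P' : Subgroup G, P' = (P : Subgroup K).map K.subtype := ⟨_, rfl⟩
  rw [← hP']
  have hP'K : P' ≤ K := hP' ▸ Subgroup.map_subtype_le _
  have hQK : MulAut.conj g • P' ≤ K := by
    intro x hx
    rw [mem_conj_smul_iff] at hx
    exact (Subgroup.mem_normalizer_iff''.mp hg x).mpr (hP'K hx)
  have hcard : Nat.card ((MulAut.conj g • P').subgroupOf K) = p ^ (Nat.card K).factorization p := by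
    rw [card_subgroupOf_of_le hQK, card_conj_smul, hP',
      Subgroup.card_map_of_injective K.subtype_injective]
    exact P.card_eq_multiplicity
  obtain ⟨k, hk⟩ := MulAction.exists_smul_eq K P (Sylow.ofCard _ hcard)
  have h1 : MulAut.conj k • (P : Subgroup K) = (MulAut.conj g • P').subgroupOf K := by
    have h2 := congrArg (fun Q : Sylow p K => (Q : Subgroup K)) hk
    simpa only [Sylow.smul_def, Sylow.pointwise_smul_def, Sylow.coe_ofCard] using h2
  have h3 : P'.subgroupOf K = (P : Subgroup K) := by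
    rw [hP']; exact Subgroup.comap_map_eq_self_of_injective K.subtype_injective _
  rw [← h3] at h1
  exact ⟨k, k.2, (conj_of_subgroupOf hP'K hQK k h1).symm⟩

/-- Coprime action: there is an `A`-invariant Sylow `p`-subgroup of `K`. -/
theorem exists_invariant_sylow {A K : Subgroup G} (hAK : A ≤ Subgroup.normalizer (K : Set G))
    (hcop : (Nat.card A).Coprime (Nat.card K)) (hsolv : Group.IsSolvable A ∨ Group.IsSolvable K)
    (p : ℕ) [Fact p.Prime] :
    ∃ P : Sylow p K, A ≤ Subgroup.normalizer ((P : Subgroup K).map K.subtype : Set G) := by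
  have hΓK : A ⊔ K ≤ Subgroup.normalizer (K : Set G) := sup_le hAK Subgroup.le_normalizer
  obtain ⟨k, hk, hA⟩ := coprime_invariant_conj
    (P := ((default : Sylow p K) : Subgroup K).map K.subtype) hAK hcop hsolv
    (fun g hg => sylow_conj_of_mem_normalizer default (hΓK hg))
  refine ⟨(⟨k, hk⟩ : K) • (default : Sylow p K), ?_⟩
  have h1 : (((⟨k, hk⟩ : K) • (default : Sylow p K) : Sylow p K) : Subgroup K).map K.subtype
      = MulAut.conj k • ((default : Sylow p K) : Subgroup K).map K.subtype := by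
    rw [Sylow.smul_def, Sylow.pointwise_smul_def, map_subtype_conj_smul]
  rw [h1]; exact hA

/-- Coprime action: two `A`-invariant Sylow `p`-subgroups of `K` are conjugate under `C_K(A)`. -/
theorem invariant_sylow_conj {A K : Subgroup G} (hAK : A ≤ Subgroup.normalizer (K : Set G))
    (hcop : (Nat.card A).Coprime (Nat.card K)) (hsolv : Group.IsSolvable A ∨ Group.IsSolvable K)
    (p : ℕ) [Fact p.Prime] (P Q : Sylow p K)
    (hP : A ≤ Subgroup.normalizer ((P : Subgroup K).map K.subtype : Set G))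
    (hQ : A ≤ Subgroup.normalizer ((Q : Subgroup K).map K.subtype : Set G)) :
    ∃ c : K, (c : G) ∈ Subgroup.centralizer (A : Set G) ∧ MulAut.conj c • P = Q := by
  obtain ⟨P', hP'⟩ : ∃ P' : Subgroup G, P' = (P : Subgroup K).map K.subtype := ⟨_, rfl⟩
  obtain ⟨Q', hQ'⟩ : ∃ Q' : Subgroup G, Q' = (Q : Subgroup K).map K.subtype := ⟨_, rfl⟩
  rw [← hP'] at hP
  rw [← hQ'] at hQ
  obtain ⟨k, hk⟩ := MulAction.exists_smul_eq K P Q
  have hkPQ : MulAut.conj (k : G) • P' = Q' := by
    rw [hP', hQ', ← map_subtype_conj_smul, ← hk, Sylow.smul_def, Sylow.pointwise_smul_def]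
  obtain ⟨D, hD⟩ : ∃ D : Subgroup G, D = Subgroup.normalizer (P' : Set G) ⊓ K := ⟨_, rfl⟩
  have hDK : D ≤ K := hD ▸ inf_le_right
  have hDP : D ≤ Subgroup.normalizer (P' : Set G) := hD ▸ inf_le_left
  have hAD : A ≤ Subgroup.normalizer (D : Set G) := by
    rw [hD]
    exact (le_inf (hP.trans Subgroup.le_normalizer) hAK).trans
      Subgroup.inf_normalizer_le_normalizer_inf
  have hcop' := Nat.Coprime.coprime_dvd_right (Subgroup.card_dvd_of_le hDK) hcop
  obtain ⟨d, hd, hc⟩ := coprime_coset_fixed hAD hcop' (solvable_or_of_le hDK hsolv) (k : G)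
    (fun a ha => by
      rw [hD, Subgroup.mem_inf]
      constructor
      · rw [mem_normalizer_iff_conj_smul]
        have ha1 := (mem_normalizer_iff_conj_smul a⁻¹ P').mp (hP (A.inv_mem ha))
        have ha2 := (mem_normalizer_iff_conj_smul a Q').mp (hQ ha)
        rw [map_mul, map_mul, map_mul, mul_smul, mul_smul, mul_smul, ha1, hkPQ, ha2, ← hkPQ,
          ← mul_smul, ← map_mul]
        simp
      · exact K.mul_mem (K.inv_mem k.2) ((Subgroup.mem_normalizer_iff.mp (hAK ha) _).mp k.2))
  refine ⟨⟨(k : G) * d, K.mul_mem k.2 (hDK hd)⟩, hc, ?_⟩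
  apply Sylow.ext
  rw [Sylow.pointwise_smul_def]
  apply Subgroup.map_injective K.subtype_injective
  rw [map_subtype_conj_smul, ← hP', ← hQ']
  show MulAut.conj ((k : G) * d) • P' = Q'
  rw [map_mul, mul_smul, (mem_normalizer_iff_conj_smul d P').mp (hDP hd), hkPQ]

/-- Coprime action: an `A`-invariant `p`-subgroup of `K` lies in an `A`-invariant Sylow
`p`-subgroup of `K`. -/
theorem invariant_pgroup_le_invariant_sylow {A K : Subgroup G}
    (hAK : A ≤ Subgroup.normalizer (K : Set G))
    (hcop : (Nat.card A).Coprime (Nat.card K)) (hsolv : Group.IsSolvable A ∨ Group.IsSolvable K)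
    (p : ℕ) [Fact p.Prime] (U : Subgroup G) (hUK : U ≤ K) (hU : IsPGroup p U)
    (hUA : A ≤ Subgroup.normalizer (U : Set G)) :
    ∃ P : Sylow p K, U ≤ (P : Subgroup K).map K.subtype ∧
      A ≤ Subgroup.normalizer ((P : Subgroup K).map K.subtype : Set G) := by
  haveI : Nonempty {V : Subgroup G // U ≤ V ∧ V ≤ K ∧ IsPGroup p V ∧
      A ≤ Subgroup.normalizer (V : Set G)} := ⟨⟨U, le_rfl, hUK, hU, hUA⟩⟩
  obtain ⟨⟨V, hUV, hVK, hVp, hVA⟩, hmax⟩ := Finite.exists_max
    (fun V : {V : Subgroup G // U ≤ V ∧ V ≤ K ∧ IsPGroup p V ∧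
      A ≤ Subgroup.normalizer (V : Set G)} => Nat.card V.1)
  obtain ⟨M, hM⟩ : ∃ M : Subgroup G, M = Subgroup.normalizer (V : Set G) ⊓ K := ⟨_, rfl⟩
  have hMK : M ≤ K := hM ▸ inf_le_right
  have hMV : M ≤ Subgroup.normalizer (V : Set G) := hM ▸ inf_le_left
  have hVM : V ≤ M := by rw [hM]; exact le_inf Subgroup.le_normalizer hVK
  have hAM : A ≤ Subgroup.normalizer (M : Set G) := by
    rw [hM]
    exact (le_inf (hVA.trans Subgroup.le_normalizer) hAK).trans
      Subgroup.inf_normalizer_le_normalizer_inf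
  have hcopM := Nat.Coprime.coprime_dvd_right (Subgroup.card_dvd_of_le hMK) hcop
  obtain ⟨R₀, hR₀⟩ := exists_invariant_sylow hAM hcopM (solvable_or_of_le hMK hsolv) p
  haveI : (V.subgroupOf M).Normal := (Subgroup.normal_subgroupOf_iff_le_normalizer hVM).mpr hMV
  have hVpM : IsPGroup p (V.subgroupOf M) := hVp.comap_subtype
  have hVR₀ : V.subgroupOf M ≤ R₀ := hVpM.le_sylow_of_normal R₀
  obtain ⟨R, hR⟩ : ∃ R : Subgroup G, R = (R₀ : Subgroup M).map M.subtype := ⟨_, rfl⟩
  rw [← hR] at hR₀
  have hVR : V ≤ R := by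
    rw [hR, ← Subgroup.map_subgroupOf_eq_of_le hVM]; exact Subgroup.map_mono hVR₀
  have hRM : R ≤ M := hR ▸ Subgroup.map_subtype_le _
  have hRp : IsPGroup p R := hR ▸ R₀.isPGroup'.map _
  have hRV : R = V := by
    symm
    apply Subgroup.eq_of_le_of_card_ge hVR
    exact hmax ⟨R, hUV.trans hVR, hRM.trans hMK, hRp, hR₀⟩
  have hVcard : Nat.card V = p ^ (Nat.card M).factorization p := by
    rw [← hRV, hR, Subgroup.card_map_of_injective M.subtype_injective]
    exact R₀.card_eq_multiplicity
  have hp : p.Prime := Fact.out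
  have hVKcard : Nat.card (V.subgroupOf K) = p ^ (Nat.card K).factorization p := by
    rw [card_subgroupOf_of_le hVK]
    obtain ⟨j, hj⟩ := IsPGroup.iff_card.mp hVp
    by_contra hne
    have hjle : j ≤ (Nat.card K).factorization p := by
      rw [← hp.pow_dvd_iff_le_factorization Nat.card_pos.ne', ← hj]
      exact Subgroup.card_dvd_of_le hVK
    have hjlt : j < (Nat.card K).factorization p := by
      rcases lt_or_eq_of_le hjle with h | h
      · exact h
      · exact absurd (by rw [hj, h]) hne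
    have hlt : p ^ (j + 1) ∣ Nat.card K :=
      (hp.pow_dvd_iff_le_factorization Nat.card_pos.ne').mpr hjlt
    have h1 := Sylow.prime_pow_dvd_card_normalizer hlt (H := V.subgroupOf K)
      (by rw [card_subgroupOf_of_le hVK, hj])
    rw [← Subgroup.subgroupOf_normalizer_eq hVK, ← Subgroup.inf_subgroupOf_right,
      card_subgroupOf_of_le inf_le_right, ← hM] at h1
    have h2 : j = (Nat.card M).factorization p :=
      Nat.pow_right_injective hp.two_le (hj.symm.trans hVcard)
    rw [h2] at h1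
    exact Nat.pow_succ_factorization_not_dvd Nat.card_pos.ne' hp h1
  refine ⟨Sylow.ofCard _ hVKcard, ?_, ?_⟩
  · rw [Sylow.coe_ofCard, Subgroup.map_subgroupOf_eq_of_le hVK]; exact hUV
  · rw [Sylow.coe_ofCard, Subgroup.map_subgroupOf_eq_of_le hVK]; exact hVA

end sylow

end Cfsg.Agent.Lib.Helper1
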