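import Cfsg.Agent.Lib.Helper1.Coprime

set_option autoImplicit false
set_option linter.unusedSectionVars false
set_option linter.style.haveILetI false
open Pointwise
open scoped commutatorElement

namespace Cfsg.Agent.Lib.Helper1

universe u

section hall

/-- A nontrivial finite solvable group has a nontrivial abelian normal subgroup. -/
theorem exists_normal_abelian {G : Type u} [Group G] [Group.IsSolvable G] [Nontrivial G] :
    ∃ A : Subgroup G, A.Normal ∧ A ≠ ⊥ ∧ ⁅A, A⁆ = ⊥ := by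
  classical
  have hex : ∃ k, derivedSeries G k = ⊥ := Group.IsSolvable.solvable
  have h0 : Nat.find hex ≠ 0 := by
    intro h
    have h1 := Nat.find_spec hex
    rw [h, derivedSeries_zero] at h1
    exact top_ne_bot h1
  obtain ⟨j, hj⟩ := Nat.exists_eq_succ_of_ne_zero h0
  refine ⟨derivedSeries G j, derivedSeries_normal G j, ?_, ?_⟩
  · exact Nat.find_min hex (by rw [hj]; exact Nat.lt_succ_self j)
  · have h1 := Nat.find_spec hex
    rw [hj, derivedSeries_succ] at h1
    exact h1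

/-- A nontrivial finite solvable group has a nontrivial normal `p`-subgroup for some prime `p`. -/
theorem exists_normal_pgroup {G : Type u} [Group G] [Finite G] [Group.IsSolvable G] [Nontrivial G] :
    ∃ (p : ℕ) (P : Subgroup G), p.Prime ∧ P.Normal ∧ IsPGroup p P ∧ P ≠ ⊥ := by
  obtain ⟨A, hAn, hA1, hAab⟩ := exists_normal_abelian (G := G)
  have hcomm : ∀ x ∈ A, ∀ y ∈ A, Commute x y := by
    intro x hx y hy
    have h1 : ⁅x, y⁆ ∈ ⁅A, A⁆ := Subgroup.commutator_mem_commutator hx hy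
    rw [hAab, Subgroup.mem_bot, commutatorElement_eq_one_iff_mul_comm] at h1
    exact h1
  have hAcard : Nat.card A ≠ 1 := fun h => hA1 (Subgroup.card_eq_one.mp h)
  obtain ⟨p, hp, hpdvd⟩ := Nat.exists_prime_and_dvd hAcard
  haveI := Fact.mk hp
  obtain ⟨x, hx⟩ := exists_prime_orderOf_dvd_card' p hpdvd
  let P : Subgroup G :=
    { carrier := {y | y ∈ A ∧ y ^ (p ^ Nat.card G) = 1}
      mul_mem' := by
        rintro a b ⟨ha, ha'⟩ ⟨hb, hb'⟩
        exact ⟨A.mul_mem ha hb, by rw [(hcomm a ha b hb).mul_pow, ha', hb', one_mul]⟩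
      one_mem' := ⟨A.one_mem, one_pow _⟩
      inv_mem' := by
        rintro a ⟨ha, ha'⟩
        exact ⟨A.inv_mem ha, by rw [inv_pow, ha', inv_one]⟩ }
  refine ⟨p, P, hp, ?_, ?_, ?_⟩
  · constructor
    rintro y ⟨hy, hy'⟩ g
    exact ⟨hAn.conj_mem y hy g, by rw [conj_pow, hy', mul_one, mul_inv_cancel]⟩
  · rintro ⟨y, hy, hy'⟩
    exact ⟨Nat.card G, Subtype.ext hy'⟩
  · intro hbot
    have h1 : (x : G) ∈ P := by
      refine ⟨x.2, ?_⟩
      have h2 : (x : G) ^ p = 1 := by
        have h3 : x ^ p = 1 := by rw [← hx]; exact pow_orderOf_eq_one x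
        have h4 := congrArg (Subtype.val) h3
        simpa using h4
      have h5 : p ∣ p ^ Nat.card G := dvd_pow_self p (Nat.card_pos).ne'
      obtain ⟨c, hc⟩ := h5
      rw [hc, pow_mul, h2, one_pow]
    rw [hbot, Subgroup.mem_bot] at h1
    have h6 : x = 1 := Subtype.ext h1
    rw [h6, orderOf_one] at hx
    exact hp.one_lt.ne' hx.symm

theorem nat_hall_aux {a b m₁ n₁ m n : ℕ} (hab : a * b = m₁ * n₁) (ha : a ∣ m) (hb : b ∣ n)
    (hm₁ : m₁ ∣ m) (hn₁ : n₁ ∣ n) (hmn : m.Coprime n) : a = m₁ := by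
  apply Nat.dvd_antisymm
  · have h1 : a ∣ m₁ * n₁ := hab ▸ dvd_mul_right a b
    exact (Nat.Coprime.of_dvd ha hn₁ hmn).dvd_of_dvd_mul_right h1
  · have h1 : m₁ ∣ a * b := hab ▸ dvd_mul_right m₁ n₁
    exact (Nat.Coprime.of_dvd hm₁ hb hmn).dvd_of_dvd_mul_right h1

variable {G : Type u} [Group G] [Finite G]

theorem index_of_card_hall {m n : ℕ} (hG : Nat.card G = m * n) {H : Subgroup G}
    (hH : Nat.card H = m) : H.index = n := by
  have h1 := Subgroup.card_mul_index H
  rw [hH, hG] at h1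
  have hm : 0 < m := by rw [← hH]; exact Nat.card_pos
  exact Nat.eq_of_mul_eq_mul_left hm h1

theorem card_of_index_hall {m n : ℕ} (hG : Nat.card G = m * n) {H : Subgroup G}
    (hH : H.index = n) : Nat.card H = m := by
  have h1 := Subgroup.card_mul_index H
  rw [hH, hG] at h1
  have hn : 0 < n := by rw [← hH]; exact Nat.pos_of_ne_zero Subgroup.index_ne_zero_of_finite
  exact Nat.eq_of_mul_eq_mul_right hn h1

/-- The image of a Hall subgroup is a Hall subgroup. -/
theorem card_map_hall {G' : Type u} [Group G'] [Finite G'] {m n m₁ n₁ : ℕ}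
    (hG : Nat.card G = m * n) (hmn : m.Coprime n) (f : G →* G') (hf : Function.Surjective f)
    (hG' : Nat.card G' = m₁ * n₁) (hm₁ : m₁ ∣ m) (hn₁ : n₁ ∣ n)
    {H : Subgroup G} (hH : Nat.card H = m) : Nat.card (H.map f) = m₁ := by
  have h1 : Nat.card (H.map f) ∣ m := hH ▸ Subgroup.card_map_dvd H f
  have h2 : (H.map f).index ∣ n := by
    rw [← index_of_card_hall hG hH]; exact Subgroup.index_map_dvd H hf
  have h3 : Nat.card (H.map f) * (H.map f).index = m₁ * n₁ := by
    rw [Subgroup.card_mul_index, hG']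
  exact nat_hall_aux h3 h1 h2 hm₁ hn₁ hmn

/-- The arithmetic of the quotient by a normal `p`-subgroup. -/
theorem quotient_hall_arith {m n p : ℕ} (hp : p.Prime) (hG : Nat.card G = m * n)
    (hmn : m.Coprime n) (P : Subgroup G) [P.Normal] (hP : IsPGroup p P) :
    ∃ m₁ n₁ : ℕ, Nat.card (G ⧸ P) = m₁ * n₁ ∧ m₁ ∣ m ∧ n₁ ∣ n ∧
      ((m₁ * Nat.card P = m ∧ n₁ = n) ∨ (m₁ = m ∧ n₁ * Nat.card P = n)) := by
  haveI := Fact.mk hp
  obtain ⟨k, hk⟩ := IsPGroup.iff_card.mp hP
  have h1 : Nat.card P * Nat.card (G ⧸ P) = m * n := by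
    rw [← Subgroup.index_eq_card, Subgroup.card_mul_index, hG]
  have hPpos : 0 < Nat.card P := Nat.card_pos
  have hPdvd : Nat.card P ∣ m * n := Dvd.intro _ h1
  by_cases hpm : p ∣ m
  · have hpn : (Nat.card P).Coprime n := by
      rw [hk]
      apply Nat.Coprime.pow_left
      rw [Nat.Prime.coprime_iff_not_dvd hp]
      intro hpn
      exact hp.one_lt.ne' (Nat.eq_one_of_dvd_coprimes hmn hpm hpn)
    obtain ⟨m₁, hm₁⟩ := hpn.dvd_of_dvd_mul_right hPdvd
    refine ⟨m₁, n, ?_, Dvd.intro_left _ hm₁.symm, dvd_rfl, Or.inl ⟨by rw [hm₁, mul_comm], rfl⟩⟩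
    rw [hm₁, mul_assoc] at h1
    exact Nat.eq_of_mul_eq_mul_left hPpos h1
  · have hpm' : (Nat.card P).Coprime m := by
      rw [hk]
      apply Nat.Coprime.pow_left
      rwa [Nat.Prime.coprime_iff_not_dvd hp]
    obtain ⟨n₁, hn₁⟩ := hpm'.dvd_of_dvd_mul_left hPdvd
    refine ⟨m, n₁, ?_, dvd_rfl, Dvd.intro_left _ hn₁.symm, Or.inr ⟨rfl, by rw [hn₁, mul_comm]⟩⟩
    rw [hn₁] at h1
    have h2 : Nat.card P * Nat.card (G ⧸ P) = Nat.card P * (m * n₁) := by rw [h1]; ring
    exact Nat.eq_of_mul_eq_mul_left hPpos h2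

/-- Hall's theorem, conjugacy. -/
theorem hall_conj {G : Type u} [Group G] [Finite G] [Group.IsSolvable G] (m n : ℕ)
    (hG : Nat.card G = m * n) (hmn : m.Coprime n) (H K : Subgroup G)
    (hH : Nat.card H = m) (hK : Nat.card K = m) : ∃ g : G, MulAut.conj g • H = K := by
  induction' hN : Nat.card G using Nat.strong_induction_on with N ih generalizing G m n
  by_cases htriv : Nat.card G = 1
  · refine ⟨1, ?_⟩
    have h1 : ∀ X : Subgroup G, X = ⊥ := by
      intro X
      apply Subgroup.card_eq_one.mp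
      exact Nat.eq_one_of_dvd_one (htriv ▸ Subgroup.card_subgroup_dvd_card X)
    rw [h1 K, h1 (MulAut.conj 1 • H)]
  haveI : Nontrivial G := Finite.one_lt_card_iff_nontrivial.mp (by
    have := Nat.card_pos (α := G); omega)
  obtain ⟨p, P, hp, hPn, hPp, hP1⟩ := exists_normal_pgroup (G := G)
  haveI := hPn
  obtain ⟨m₁, n₁, hG', hm₁, hn₁, hcase⟩ := quotient_hall_arith hp hG hmn P hPp
  have hπ := QuotientGroup.mk'_surjective P
  have hmn₁ : m₁.Coprime n₁ := Nat.Coprime.of_dvd hm₁ hn₁ hmn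
  have hH' := card_map_hall hG hmn (QuotientGroup.mk' P) hπ hG' hm₁ hn₁ hH
  have hK' := card_map_hall hG hmn (QuotientGroup.mk' P) hπ hG' hm₁ hn₁ hK
  obtain ⟨g', hg'⟩ := ih (Nat.card (G ⧸ P)) (hN ▸ card_quotient_lt hP1) m₁ n₁ hG' hmn₁ _ _
    hH' hK' rfl
  obtain ⟨g, hg⟩ := conj_sup_of_map P g' hg'
  obtain ⟨H₁, hH₁⟩ : ∃ H₁ : Subgroup G, H₁ = MulAut.conj g • H := ⟨_, rfl⟩
  rw [← hH₁] at hg
  have hH₁card : Nat.card H₁ = m := by rw [hH₁, card_conj_smul, hH]
  suffices hsuff : ∃ l : G, MulAut.conj l • H₁ = K by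
    obtain ⟨l, hl⟩ := hsuff
    exact ⟨l * g, by rw [map_mul, mul_smul, ← hH₁]; exact hl⟩
  rcases hcase with ⟨hm, hn⟩ | ⟨hm, hn⟩
  · have key : ∀ X : Subgroup G, Nat.card X = m → X ⊔ P = X := by
      intro X hX
      symm
      apply Subgroup.eq_of_le_of_card_ge le_sup_left
      rw [hX]
      apply le_of_eq
      apply card_of_index_hall hG
      have h1 : X ⊔ P = (X.map (QuotientGroup.mk' P)).comap (QuotientGroup.mk' P) := by
        rw [Subgroup.comap_map_eq, QuotientGroup.ker_mk']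
      rw [h1, Subgroup.index_comap_of_surjective _ hπ, ← hn]
      exact index_of_card_hall hG' (card_map_hall hG hmn (QuotientGroup.mk' P) hπ hG' hm₁ hn₁ hX)
    refine ⟨1, ?_⟩
    rw [map_one, one_smul, ← key H₁ hH₁card, hg, key K hK]
  · obtain ⟨L, hL⟩ : ∃ L : Subgroup G, L = K ⊔ P := ⟨_, rfl⟩
    rw [← hL] at hg
    have hH₁L : H₁ ≤ L := by rw [← hg]; exact le_sup_left
    have hKL : K ≤ L := by rw [hL]; exact le_sup_left
    have hPL : P ≤ L := by rw [hL]; exact le_sup_right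
    have hcopPm : (Nat.card P).Coprime m := by
      have h1 : (Nat.card P) ∣ n := Dvd.intro_left _ hn
      exact (Nat.Coprime.coprime_dvd_right h1 hmn).symm
    have hPK : P ⊓ K = ⊥ := inf_eq_bot_of_coprime_card (hK ▸ hcopPm)
    have hrel : P.relIndex L = m := by
      rw [hL, Subgroup.relIndex_sup_right, relIndex_eq_card_of_inf_eq_bot hPK, hK]
    have hcopL : (Nat.card (P.subgroupOf L)).Coprime (P.subgroupOf L).index := by
      rw [card_subgroupOf_of_le hPL]
      change (Nat.card P).Coprime (P.relIndex L)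
      rw [hrel]; exact hcopPm
    obtain ⟨l, hl⟩ := sz_conj_card (P.subgroupOf L) hcopL (H₁.subgroupOf L) (K.subgroupOf L)
      (Or.inl inferInstance)
      (by rw [card_subgroupOf_of_le hH₁L, hH₁card]; exact hrel.symm)
      (by rw [card_subgroupOf_of_le hKL, hK]; exact hrel.symm)
    exact ⟨l, conj_of_subgroupOf hH₁L hKL l hl⟩

/-- Hall's theorem, existence and dominance. -/
theorem hall_dominance {G : Type u} [Group G] [Finite G] [Group.IsSolvable G] (m n : ℕ)
    (hG : Nat.card G = m * n) (hmn : m.Coprime n) (K : Subgroup G)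
    (hK : (Nat.card K).Coprime n) : ∃ H : Subgroup G, Nat.card H = m ∧ K ≤ H := by
  induction' hN : Nat.card G using Nat.strong_induction_on with N ih generalizing G m n
  by_cases htriv : Nat.card G = 1
  · refine ⟨K, ?_, le_rfl⟩
    have hK1 : Nat.card K = 1 :=
      Nat.eq_one_of_dvd_one (htriv ▸ Subgroup.card_subgroup_dvd_card K)
    have hm1 : m = 1 := by
      rw [htriv] at hG
      exact Nat.eq_one_of_mul_eq_one_right hG.symm
    rw [hK1, hm1]
  haveI : Nontrivial G := Finite.one_lt_card_iff_nontrivial.mp (by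
    have := Nat.card_pos (α := G); omega)
  obtain ⟨p, P, hp, hPn, hPp, hP1⟩ := exists_normal_pgroup (G := G)
  haveI := hPn
  obtain ⟨m₁, n₁, hG', hm₁, hn₁, hcase⟩ := quotient_hall_arith hp hG hmn P hPp
  have hπ := QuotientGroup.mk'_surjective P
  have hmn₁ : m₁.Coprime n₁ := Nat.Coprime.of_dvd hm₁ hn₁ hmn
  have hK' : (Nat.card (K.map (QuotientGroup.mk' P))).Coprime n₁ :=
    Nat.Coprime.of_dvd (Subgroup.card_map_dvd K _) hn₁ hK
  obtain ⟨H', hH', hKH'⟩ := ih (Nat.card (G ⧸ P)) (hN ▸ card_quotient_lt hP1) m₁ n₁ hG' hmn₁ _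
    hK' rfl
  obtain ⟨L, hL⟩ : ∃ L : Subgroup G, L = H'.comap (QuotientGroup.mk' P) := ⟨_, rfl⟩
  have hKL : K ≤ L := by rw [hL, ← Subgroup.map_le_iff_le_comap]; exact hKH'
  have hPL : P ≤ L := by
    rw [hL]; intro x hx; rw [Subgroup.mem_comap]
    have h1 : (QuotientGroup.mk' P) x = 1 := (QuotientGroup.eq_one_iff x).mpr hx
    rw [h1]; exact H'.one_mem
  have hLindex : L.index = n₁ := by
    rw [hL, Subgroup.index_comap_of_surjective _ hπ]; exact index_of_card_hall hG' hH'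
  rcases hcase with ⟨hm, hn⟩ | ⟨hm, hn⟩
  · exact ⟨L, card_of_index_hall hG (hn ▸ hLindex), hKL⟩
  · have hPn' : (Nat.card P) ∣ n := Dvd.intro_left _ hn
    have hcopPm : (Nat.card P).Coprime m := (Nat.Coprime.coprime_dvd_right hPn' hmn).symm
    have hcopPK : (Nat.card P).Coprime (Nat.card K) :=
      (Nat.Coprime.coprime_dvd_right hPn' hK).symm
    have hn₁pos : 0 < n₁ := by
      rw [← hLindex]; exact Nat.pos_of_ne_zero Subgroup.index_ne_zero_of_finite
    have hLcard : Nat.card L = Nat.card P * m := by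
      have h1 := Subgroup.card_mul_index L
      rw [hLindex, hG, ← hn] at h1
      have h2 : Nat.card L * n₁ = (Nat.card P * m) * n₁ := by rw [h1]; ring
      exact Nat.eq_of_mul_eq_mul_right hn₁pos h2
    have hrel : P.relIndex L = m := by
      have h1 := Subgroup.card_mul_index (P.subgroupOf L)
      rw [card_subgroupOf_of_le hPL, hLcard] at h1
      exact Nat.eq_of_mul_eq_mul_left Nat.card_pos h1
    have hcopL : (Nat.card (P.subgroupOf L)).Coprime (P.subgroupOf L).index := by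
      rw [card_subgroupOf_of_le hPL]
      change (Nat.card P).Coprime (P.relIndex L)
      rw [hrel]; exact hcopPm
    obtain ⟨H₀', hH₀'⟩ := Subgroup.exists_right_complement'_of_coprime hcopL
    have hH₀'card : Nat.card H₀' = m := by
      rw [← hrel]; exact hH₀'.symm.index_eq_card.symm
    obtain ⟨H₀, hH₀def⟩ : ∃ H₀ : Subgroup G, H₀ = H₀'.map L.subtype := ⟨_, rfl⟩
    have hH₀L : H₀ ≤ L := hH₀def ▸ Subgroup.map_subtype_le H₀'
    have hH₀card : Nat.card H₀ = m := by
      rw [hH₀def, Subgroup.card_map_of_injective L.subtype_injective, hH₀'card]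
    have hPH₀ : P ⊓ H₀ = ⊥ := inf_eq_bot_of_coprime_card (hH₀card ▸ hcopPm)
    have hLsup : H₀ ⊔ P = L := by
      apply Subgroup.eq_of_le_of_card_ge (sup_le hH₀L hPL)
      have h1 := Subgroup.card_mul_index (P.subgroupOf (H₀ ⊔ P))
      rw [card_subgroupOf_of_le le_sup_right] at h1
      change _ * P.relIndex (H₀ ⊔ P) = _ at h1
      rw [Subgroup.relIndex_sup_right, relIndex_eq_card_of_inf_eq_bot hPH₀, hH₀card] at h1
      rw [hLcard, h1]
    obtain ⟨R, hR⟩ : ∃ R : Subgroup G, R = K ⊔ P := ⟨_, rfl⟩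
    have hRL : R ≤ L := hR ▸ sup_le hKL hPL
    have hPR : P ≤ R := hR ▸ le_sup_right
    have hBsup : (H₀ ⊓ R) ⊔ P = R := by
      apply le_antisymm (sup_le inf_le_right hPR)
      intro r hr
      have h1 : r ∈ ((H₀ ⊔ P : Subgroup G) : Set G) := by rw [hLsup]; exact hRL hr
      rw [Subgroup.mul_normal] at h1
      obtain ⟨h, hh, x, hx, rfl⟩ := h1
      have h2 : h ∈ R := by
        have h3 := R.mul_mem hr (R.inv_mem (hPR hx))
        simpa using h3
      exact Subgroup.mul_mem _ (Subgroup.mem_sup_left ⟨hh, h2⟩) (Subgroup.mem_sup_right hx)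
    have hPB : P ⊓ (H₀ ⊓ R) = ⊥ := by
      apply le_bot_iff.mp; rw [← hPH₀]; exact inf_le_inf_left P inf_le_left
    have hBcard : Nat.card (H₀ ⊓ R : Subgroup G) = Nat.card K := by
      have h1 : P.relIndex R = Nat.card K := by
        rw [hR, Subgroup.relIndex_sup_right,
          relIndex_eq_card_of_inf_eq_bot (inf_eq_bot_of_coprime_card hcopPK)]
      have h2 : P.relIndex ((H₀ ⊓ R) ⊔ P) = P.relIndex (H₀ ⊓ R) := Subgroup.relIndex_sup_right _ _
      rw [hBsup, relIndex_eq_card_of_inf_eq_bot hPB] at h2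
      exact h2.symm.trans h1
    obtain ⟨x, hx, hxK⟩ := sz_conj_rel (A := K) (K := P) (B := H₀ ⊓ R)
      Subgroup.le_normalizer_of_normal hcopPK.symm (Or.inr inferInstance)
      (hR ▸ inf_le_right) hBcard
    refine ⟨MulAut.conj x⁻¹ • H₀, by rw [card_conj_smul, hH₀card], ?_⟩
    intro k hk
    rw [mem_conj_smul_iff, inv_inv]
    have h4 : x * k * x⁻¹ ∈ MulAut.conj x • K := by
      rw [mem_conj_smul_iff]; simpa [mul_assoc] using hk
    rw [hxK] at h4
    exact h4.1

/-- Hall's theorem, existence. -/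
theorem hall_exists {G : Type u} [Group G] [Finite G] [Group.IsSolvable G] (m n : ℕ)
    (hG : Nat.card G = m * n) (hmn : m.Coprime n) : ∃ H : Subgroup G, Nat.card H = m := by
  obtain ⟨H, hH, -⟩ := hall_dominance m n hG hmn ⊥ (by rw [Subgroup.card_bot]; exact Nat.coprime_one_left n)
  exact ⟨H, hH⟩

end hall

end Cfsg.Agent.Lib.Helper1
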