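import Mathlib
import Cfsg.Agent.Lib.Helper1.Coprime2
import Cfsg.Agent.Lib.Helper26.NpcBasic

set_option autoImplicit false
set_option linter.unusedSectionVars false
set_option linter.style.haveILetI false
set_option linter.unusedVariables false

namespace Cfsg.Agent.Lib.Helper1

open Cfsg.Agent.Lib.Helper26 Cfsg.Agent.Lib.Helper2

universe u

open Pointwise

theorem nm_sylow_normal {H : Type u} [Group H] [Finite H] (hnil : Group.IsNilpotent H) {p : ℕ}
    [Fact p.Prime] (P : Sylow p H) : (P : Subgroup H).Normal := by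
  have h03 : Group.IsNilpotent H ↔ ∀ (p : ℕ) (_hp : Fact p.Prime) (P : Sylow p H),
      (↑P : Subgroup H).Normal := (Group.isNilpotent_of_finite_tfae (G := H)).out 0 3
  exact h03.mp hnil p inferInstance P

section nilmax

variable {G : Type u} [Group G]

/-- `M` contains no nontrivial normal subgroup of `G`. -/
def NMCoreFree (M : Subgroup G) : Prop := ∀ N : Subgroup G, N.Normal → N ≤ M → N = ⊥

theorem nm_le_normalizer_of_forall_conj_mem {M S : Subgroup G}
    (h : ∀ m ∈ M, ∀ s ∈ S, m * s * m⁻¹ ∈ S) : M ≤ Subgroup.normalizer (S : Set G) := by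
  intro m hm
  rw [Subgroup.mem_normalizer_iff]
  intro s
  refine ⟨fun hs => h m hm s hs, fun hs => ?_⟩
  have h1 := h m⁻¹ (M.inv_mem hm) _ hs
  have h2 : m⁻¹ * (m * s * m⁻¹) * m⁻¹⁻¹ = s := by group
  rwa [h2] at h1

theorem nm_normalizer_eq_of_coatom {M : Subgroup G} (hmax : IsCoatom M) (hcf : NMCoreFree M)
    {X : Subgroup G} (hXM : X ≤ M) (hX : X ≠ ⊥) (hMX : M ≤ Subgroup.normalizer (X : Set G)) :
    Subgroup.normalizer (X : Set G) = M := by
  rcases eq_or_lt_of_le hMX with h | h
  · exact h.symm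
  · have htop := hmax.2 _ h
    exact absurd (hcf X (Subgroup.normalizer_eq_top_iff.mp htop) hXM) hX

/-- In a finite nilpotent group every element is a product of an element of the Sylow
`p`-subgroup and an element centralizing it. -/
theorem nm_decomp {H : Type u} [Group H] [Finite H] (hnil : Group.IsNilpotent H) {p : ℕ}
    [Fact p.Prime] (P : Sylow p H) (g : H) :
    ∃ u ∈ (P : Subgroup H), ∃ c ∈ Subgroup.centralizer ((P : Subgroup H) : Set H), g = u * c := by
  classical
  have hPn : (P : Subgroup H).Normal := nm_sylow_normal hnil P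
  have hCidx : ∃ k, (Subgroup.centralizer ((P : Subgroup H) : Set H)).index = p ^ k := by
    refine ⟨_, Nat.eq_prime_pow_of_unique_prime_dvd Subgroup.index_ne_zero_of_finite ?_⟩
    intro q hq hqd
    by_contra hne
    haveI : Fact q.Prime := ⟨hq⟩
    let Q : Sylow q H := default
    have hQn : (Q : Subgroup H).Normal := nm_sylow_normal hnil Q
    have hQC : (Q : Subgroup H) ≤ Subgroup.centralizer ((P : Subgroup H) : Set H) := by
      intro y hy
      rw [Subgroup.mem_centralizer_iff]
      intro x hx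
      have hdisj : Disjoint (P : Subgroup H) (Q : Subgroup H) :=
        IsPGroup.disjoint_of_ne p q (Ne.symm hne) _ _ P.isPGroup' Q.isPGroup'
      exact (Subgroup.commute_of_normal_of_disjoint _ _ hPn hQn hdisj x y hx hy).eq
    have h1 : (Subgroup.centralizer ((P : Subgroup H) : Set H)).index ∣ (Q : Subgroup H).index :=
      Subgroup.index_dvd_of_le hQC
    exact Q.not_dvd_index (hqd.trans h1)
  obtain ⟨k, hk⟩ := hCidx
  have htop := sup_eq_top_of_index_pow P _ hk
  have hg : g ∈ ((P : Subgroup H) ⊔ Subgroup.centralizer ((P : Subgroup H) : Set H)) := by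
    rw [htop]; exact Subgroup.mem_top g
  haveI := hPn
  have h2 : g ∈ ((P : Subgroup H) : Set H) * (Subgroup.centralizer ((P : Subgroup H) : Set H) : Set H) := by
    rw [← Subgroup.normal_mul]; exact hg
  obtain ⟨u, hu, c, hc, rfl⟩ := Set.mem_mul.mp h2
  exact ⟨u, hu, c, hc, rfl⟩

/-- A finite nilpotent group has a normal `p`-complement. -/
theorem nm_npc_of_nilpotent {H : Type u} [Group H] [Finite H] (hnil : Group.IsNilpotent H) (p : ℕ)
    [Fact p.Prime] : Npc p H := by
  let P : Sylow p H := default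
  have hPn : (P : Subgroup H).Normal := nm_sylow_normal hnil P
  have hFC : FusionControl P := by
    intro x hx g hgx
    obtain ⟨u, hu, c, hc, rfl⟩ := nm_decomp hnil P g
    refine ⟨u, hu, ?_⟩
    have hcx : x * c = c * x := Subgroup.mem_centralizer_iff.mp hc x hx
    have : c * x * c⁻¹ = x := by rw [← hcx]; group
    calc u * x * u⁻¹ = u * (c * x * c⁻¹) * u⁻¹ := by rw [this]
      _ = u * c * x * (u * c)⁻¹ := by group
  exact npc_of_hasNPC ⟨P, Cfsg.pResidual p H, pResidual_normal p,
    isComplement'_pResidual_of_fusionControl P hFC⟩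

/-- normalizers grow in `p`-groups (ambient form) -/
theorem nm_exists_normalizer_not_mem [Finite G] {p : ℕ} [Fact p.Prime] {R P : Subgroup G}
    (hP : IsPGroup p P) (hRP : R ≤ P) (hne : R ≠ P) :
    ∃ y ∈ P, y ∈ Subgroup.normalizer (R : Set G) ∧ y ∉ R := by
  haveI : Group.IsNilpotent P := hP.isNilpotent
  have hlt : R.subgroupOf P < ⊤ := by
    rw [lt_top_iff_ne_top]
    intro h
    exact hne (le_antisymm hRP (Subgroup.subgroupOf_eq_top.mp h))
  have hnc := Group.normalizerCondition_of_isNilpotent (G := P) (R.subgroupOf P) hlt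
  obtain ⟨y, hyN, hyR⟩ := SetLike.exists_of_lt hnc
  refine ⟨(y : G), y.2, ?_, fun h => hyR (Subgroup.mem_subgroupOf.mpr h)⟩
  rw [Subgroup.mem_normalizer_iff] at hyN ⊢
  intro z
  constructor
  · intro hz
    have := (hyN ⟨z, hRP hz⟩).mp (Subgroup.mem_subgroupOf.mpr hz)
    exact Subgroup.mem_subgroupOf.mp this
  · intro hz
    have hzP : z ∈ P := by
      have h1 : (y : G)⁻¹ * ((y : G) * z * (y : G)⁻¹) * (y : G) = z := by group
      rw [← h1]
      exact P.mul_mem (P.mul_mem (P.inv_mem y.2) (hRP hz)) y.2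
    have := (hyN ⟨z, hzP⟩).mpr (Subgroup.mem_subgroupOf.mpr hz)
    exact Subgroup.mem_subgroupOf.mp this

/-- The Sylow `p`-subgroup of a core-free nilpotent maximal subgroup `M` is a Sylow
`p`-subgroup of `G` whose normalizer is `M`. -/
theorem nm_exists_sylow [Finite G] {M : Subgroup G} (hmax : IsCoatom M)
    (hcf : NMCoreFree M) (hnil : Group.IsNilpotent M) {p : ℕ} [Fact p.Prime]
    (hp : p ∣ Nat.card M) :
    ∃ P : Sylow p G, (P : Subgroup G) ≤ M ∧ (P : Subgroup G) ≠ ⊥ ∧
      Subgroup.normalizer ((P : Subgroup G) : Set G) = M ∧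
      (∀ x ∈ M, (∃ k : ℕ, x ^ p ^ k = 1) → x ∈ (P : Subgroup G)) ∧
      (∀ n ∈ M, ∃ u ∈ (P : Subgroup G),
        ∃ c ∈ Subgroup.centralizer ((P : Subgroup G) : Set G), n = u * c) := by
  classical
  let PM : Sylow p M := default
  have hPMn : (PM : Subgroup M).Normal := nm_sylow_normal hnil PM
  obtain ⟨P0, hP0⟩ : ∃ P0 : Subgroup G, P0 = (PM : Subgroup M).map M.subtype := ⟨_, rfl⟩
  have hP0M : P0 ≤ M := hP0 ▸ Subgroup.map_subtype_le _
  have hP0p : IsPGroup p P0 := hP0 ▸ PM.isPGroup'.map M.subtype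
  have hmemP0 : ∀ x : M, (x : G) ∈ P0 ↔ x ∈ (PM : Subgroup M) := by
    intro x
    rw [hP0]
    constructor
    · rintro ⟨y, hy, hyx⟩
      have : y = x := Subtype.ext hyx
      rwa [← this]
    · intro hx
      exact ⟨x, hx, rfl⟩
  have hMN : M ≤ Subgroup.normalizer (P0 : Set G) := by
    apply nm_le_normalizer_of_forall_conj_mem
    intro m hm s hs
    have hsM : s ∈ M := hP0M hs
    have h1 : (⟨s, hsM⟩ : M) ∈ (PM : Subgroup M) := (hmemP0 ⟨s, hsM⟩).mp hs
    have h2 := hPMn.conj_mem _ h1 ⟨m, hm⟩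
    exact (hmemP0 _).mpr h2
  have hP0ne : P0 ≠ ⊥ := by
    intro h
    have h1 : (PM : Subgroup M) ≠ ⊥ := PM.ne_bot_of_dvd_card hp
    apply h1
    rw [hP0] at h
    exact (Subgroup.map_eq_bot_iff_of_injective _ M.subtype_injective).mp h
  have hNorm : Subgroup.normalizer (P0 : Set G) = M :=
    nm_normalizer_eq_of_coatom hmax hcf hP0M hP0ne hMN
  have hpel : ∀ x ∈ M, (∃ k : ℕ, x ^ p ^ k = 1) → x ∈ P0 := by
    intro x hx ⟨k, hk⟩
    have hz : IsPGroup p (Subgroup.zpowers (⟨x, hx⟩ : M)) := by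
      rintro ⟨y, hy⟩
      obtain ⟨j, rfl⟩ := Subgroup.mem_zpowers_iff.mp hy
      refine ⟨k, ?_⟩
      apply Subtype.ext
      apply Subtype.ext
      simp only [Subgroup.coe_pow, Subgroup.coe_zpow, Subgroup.coe_one]
      rw [← zpow_natCast, ← zpow_mul, mul_comm, zpow_mul, zpow_natCast, hk, one_zpow]
    obtain ⟨Q, hQ⟩ := hz.exists_le_sylow
    obtain ⟨g, hg⟩ := MulAction.exists_smul_eq M PM Q
    haveI := hPMn
    have hQeq : Q = PM := by rw [← hg]; exact Sylow.smul_eq_of_normal
    rw [hQeq] at hQ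
    exact (hmemP0 ⟨x, hx⟩).mpr (hQ (Subgroup.mem_zpowers _))
  obtain ⟨P, hP⟩ := hP0p.exists_le_sylow
  have hPeq : P0 = (P : Subgroup G) := by
    by_contra hne
    obtain ⟨y, hyP, hyN, hyR⟩ := nm_exists_normalizer_not_mem P.isPGroup' hP hne
    rw [hNorm] at hyN
    obtain ⟨k, hk⟩ := P.isPGroup' ⟨y, hyP⟩
    apply hyR
    apply hpel y hyN
    exact ⟨k, by simpa using congrArg Subtype.val hk⟩
  refine ⟨P, hPeq ▸ hP0M, hPeq ▸ hP0ne, hPeq ▸ hNorm, hPeq ▸ hpel, ?_⟩
  intro n hn
  obtain ⟨u, hu, c, hc, hnuc⟩ := nm_decomp hnil PM ⟨n, hn⟩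
  refine ⟨(u : G), hPeq ▸ (hmemP0 u).mpr hu, (c : G), ?_, ?_⟩
  · rw [Subgroup.mem_centralizer_iff]
    intro h hh
    rw [← hPeq] at hh
    have hhM : h ∈ M := hP0M hh
    have h1 : (⟨h, hhM⟩ : M) ∈ (PM : Subgroup M) := (hmemP0 ⟨h, hhM⟩).mp hh
    have h2 := Subgroup.mem_centralizer_iff.mp hc _ h1
    exact congrArg Subtype.val h2
  · exact congrArg Subtype.val hnuc

theorem nm_index_inf_le [Finite G] (K : ℕ → Subgroup G) (s : Finset ℕ) :
    (s.inf K).index ≤ ∏ p ∈ s, (K p).index := by
  classical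
  induction s using Finset.induction_on with
  | empty => simp
  | insert a s ha ih =>
    rw [Finset.inf_insert, Finset.prod_insert ha]
    exact Subgroup.index_inf_le.trans (Nat.mul_le_mul_left _ ih)

/-- If `G` has normal `p`-complements for all primes dividing the order of a core-free
nilpotent maximal subgroup, then `G` is solvable. -/
theorem nm_solvable_of_npc [Finite G] {M : Subgroup G} (hmax : IsCoatom M) (hcf : NMCoreFree M)
    (hnil : Group.IsNilpotent M) (hM : M ≠ ⊥)
    (h : ∀ (p : ℕ) [Fact p.Prime], p ∣ Nat.card M → Npc p G) : Group.IsSolvable G := by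
  classical
  have hcardM : Nat.card M ≠ 0 := Nat.card_pos.ne'
  have h' : ∀ p : ℕ, p ∈ (Nat.card M).primeFactors →
      ∃ N : Subgroup G, N.Normal ∧ (Nat.card N).Coprime p ∧ ∃ k : ℕ, N.index = p ^ k := by
    intro p hp
    haveI : Fact p.Prime := ⟨Nat.prime_of_mem_primeFactors hp⟩
    exact h p (Nat.dvd_of_mem_primeFactors hp)
  let K : ℕ → Subgroup G := fun p =>
    if hp : p ∈ (Nat.card M).primeFactors then Classical.choose (h' p hp) else ⊤
  have hKspec : ∀ p (hp : p ∈ (Nat.card M).primeFactors),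
      (K p).Normal ∧ (Nat.card (K p)).Coprime p ∧ ∃ k : ℕ, (K p).index = p ^ k := by
    intro p hp
    have : K p = Classical.choose (h' p hp) := dif_pos hp
    rw [this]
    exact Classical.choose_spec (h' p hp)
  obtain ⟨Kinf, hKinf⟩ : ∃ Kinf : Subgroup G, Kinf = (Nat.card M).primeFactors.inf K := ⟨_, rfl⟩
  have hKn : Kinf.Normal := by
    rw [hKinf]
    apply Finset.inf_induction (p := fun S : Subgroup G => S.Normal)
    · exact Subgroup.normal_top
    · intro a ha b hb
      haveI := ha
      haveI := hb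
      infer_instance
    · intro b hb
      exact (hKspec b hb).1
  -- the indices
  have hidx : ∀ p ∈ (Nat.card M).primeFactors,
      (K p).index ≤ p ^ (Nat.card M).factorization p := by
    intro p hp
    haveI : Fact p.Prime := ⟨Nat.prime_of_mem_primeFactors hp⟩
    have hpp : p.Prime := Nat.prime_of_mem_primeFactors hp
    obtain ⟨-, -, k, hk⟩ := hKspec p hp
    obtain ⟨P, hPM, -, -, -, -⟩ := nm_exists_sylow hmax hcf hnil (Nat.dvd_of_mem_primeFactors hp)
    have h1 : p ^ k ∣ Nat.card G := hk ▸ Subgroup.index_dvd_card _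
    have h2 : k ≤ (Nat.card G).factorization p :=
      (hpp.pow_dvd_iff_le_factorization Nat.card_pos.ne').mp h1
    have h3 : p ^ (Nat.card G).factorization p ∣ Nat.card M := by
      rw [← P.card_eq_multiplicity]
      exact Subgroup.card_dvd_of_le hPM
    have h4 : (Nat.card G).factorization p ≤ (Nat.card M).factorization p :=
      (hpp.pow_dvd_iff_le_factorization hcardM).mp h3
    rw [hk]
    exact Nat.pow_le_pow_right hpp.pos (h2.trans h4)
  have hprod : ∏ p ∈ (Nat.card M).primeFactors, (K p).index ≤ Nat.card M := by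
    calc ∏ p ∈ (Nat.card M).primeFactors, (K p).index
        ≤ ∏ p ∈ (Nat.card M).primeFactors, p ^ (Nat.card M).factorization p :=
          Finset.prod_le_prod (fun i _ => Nat.zero_le _) hidx
      _ = Nat.card M := by
          rw [← Nat.prod_factorization_eq_prod_primeFactors]
          exact Nat.prod_factorization_pow_eq_self hcardM
  have hMlt : Nat.card M < Nat.card G := card_lt_of_index_ne_one hmax.1
  have hKne : Kinf ≠ ⊥ := by
    intro hbot
    have h1 := nm_index_inf_le K (Nat.card M).primeFactors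
    rw [← hKinf, hbot, Subgroup.index_bot] at h1
    omega
  have hcop : (Nat.card M).Coprime (Nat.card Kinf) := by
    by_contra hnc
    obtain ⟨q, hq, hqM, hqK⟩ := Nat.Prime.not_coprime_iff_dvd.mp hnc
    have hqmem : q ∈ (Nat.card M).primeFactors := Nat.mem_primeFactors.mpr ⟨hq, hqM, hcardM⟩
    have hle : Kinf ≤ K q := hKinf ▸ Finset.inf_le hqmem
    have h1 : Nat.card Kinf ∣ Nat.card (K q) := Subgroup.card_dvd_of_le hle
    have h2 := (hKspec q hqmem).2.1
    have h3 : q ∣ Nat.gcd (Nat.card (K q)) q := Nat.dvd_gcd (hqK.trans h1) dvd_rfl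
    rw [h2] at h3
    exact hq.one_lt.ne' (Nat.dvd_one.mp h3)
  have hKcard : Nat.card Kinf ≠ 1 := fun h1 => hKne (Subgroup.card_eq_one.mp h1)
  haveI : Fact (Nat.card Kinf).minFac.Prime := ⟨Nat.minFac_prime hKcard⟩
  have hMK : M ≤ Subgroup.normalizer (Kinf : Set G) := by
    rw [Subgroup.normalizer_eq_top_iff.mpr hKn]; exact le_top
  haveI : Group.IsNilpotent M := hnil
  obtain ⟨Q, hQ⟩ := exists_invariant_sylow hMK hcop (Or.inl inferInstance) (Nat.card Kinf).minFac
  obtain ⟨Q0, hQ0⟩ : ∃ Q0 : Subgroup G, Q0 = (Q : Subgroup Kinf).map Kinf.subtype := ⟨_, rfl⟩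
  rw [← hQ0] at hQ
  have hQ0K : Q0 ≤ Kinf := hQ0 ▸ Subgroup.map_subtype_le _
  have hQ0p : IsPGroup (Nat.card Kinf).minFac Q0 := hQ0 ▸ Q.isPGroup'.map Kinf.subtype
  have hQ0ne : Q0 ≠ ⊥ := by
    intro hbot
    have h1 : (Q : Subgroup Kinf) ≠ ⊥ := Q.ne_bot_of_dvd_card (Nat.minFac_dvd _)
    apply h1
    rw [hQ0] at hbot
    exact (Subgroup.map_eq_bot_iff_of_injective _ Kinf.subtype_injective).mp hbot
  have hQ0M : ¬ Q0 ≤ M := by
    intro hle
    have h1 : (Nat.card M).Coprime (Nat.card Q0) :=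
      Nat.Coprime.coprime_dvd_right (Subgroup.card_dvd_of_le hQ0K) hcop
    have h2 : M ⊓ Q0 = ⊥ := disjoint_iff.mp (Subgroup.disjoint_of_coprime_natCard h1)
    apply hQ0ne
    rw [← h2]
    exact (inf_eq_right.mpr hle).symm
  have hsup : M ⊔ Q0 = ⊤ := by
    apply hmax.2
    refine lt_of_le_of_ne le_sup_left (fun heq => hQ0M ?_)
    rw [heq]; exact le_sup_right
  have hQ0n : Q0.Normal := by
    rw [← Subgroup.normalizer_eq_top_iff, eq_top_iff, ← hsup]
    exact sup_le hQ Subgroup.le_normalizer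
  haveI := hQ0n
  haveI : Group.IsSolvable Q0 := by
    haveI := hQ0p.isNilpotent
    infer_instance
  haveI : Group.IsSolvable (G ⧸ Q0) := by
    have hsurj : Function.Surjective ((QuotientGroup.mk' Q0).comp M.subtype) := by
      intro y
      obtain ⟨g, rfl⟩ := QuotientGroup.mk'_surjective Q0 y
      have hg : g ∈ M ⊔ Q0 := by rw [hsup]; exact Subgroup.mem_top g
      have hg2 : g ∈ (M : Set G) * (Q0 : Set G) := by
        rw [← Subgroup.mul_normal]; exact hg
      obtain ⟨m, hm, c, hc, rfl⟩ := Set.mem_mul.mp hg2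
      refine ⟨⟨m, hm⟩, ?_⟩
      simp only [MonoidHom.coe_comp, Function.comp_apply, Subgroup.coe_subtype,
        QuotientGroup.mk'_apply]
      rw [QuotientGroup.eq]
      simpa using hc
    exact Group.isSolvable_of_surjective hsurj
  exact Group.isSolvable_of_ker_le_range Q0.subtype (QuotientGroup.mk' Q0) (by simp)

end nilmax

theorem nm_isCoatom_map {G : Type u} [Group G] {M N : Subgroup G} [N.Normal] (hmax : IsCoatom M)
    (hNM : N ≤ M) : IsCoatom (M.map (QuotientGroup.mk' N)) := by
  have hsurj := QuotientGroup.mk'_surjective N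
  have hcomap : (M.map (QuotientGroup.mk' N)).comap (QuotientGroup.mk' N) = M := by
    rw [Subgroup.comap_map_eq, QuotientGroup.ker_mk']; exact sup_eq_left.mpr hNM
  refine ⟨fun htop => hmax.1 ?_, fun X hX => ?_⟩
  · rw [← hcomap, htop, Subgroup.comap_top]
  · have h1 : M < X.comap (QuotientGroup.mk' N) := by
      rw [← hcomap]
      refine lt_of_le_of_ne (Subgroup.comap_mono hX.le) (fun heq => hX.ne ?_)
      have := congrArg (Subgroup.map (QuotientGroup.mk' N)) heq
      rwa [Subgroup.map_comap_eq_self_of_surjective hsurj,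
        Subgroup.map_comap_eq_self_of_surjective hsurj] at this
    have h2 := hmax.2 _ h1
    rw [← Subgroup.map_comap_eq_self_of_surjective hsurj X, h2,
      Subgroup.map_top_of_surjective _ hsurj]

/-- Reduction scheme: a finite group with a nilpotent maximal subgroup having a
quotient-closed property `Φ` is solvable, provided that in the core-free case all the
relevant normal `p`-complements exist. -/
theorem nm_solvable_of_reduction
    (Φ : ∀ (H : Type u) [Group H], Prop)
    (hquot : ∀ (A B : Type u) [Group A] [Group B] [Finite A] (f : A →* B),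
      Function.Surjective f → Φ A → Φ B)
    (hcore : ∀ (G : Type u) [Group G] [Finite G] (M : Subgroup G), IsCoatom M → NMCoreFree M →
      M ≠ ⊥ → Group.IsNilpotent M → Φ M → ∀ (p : ℕ) [Fact p.Prime], p ∣ Nat.card M → Npc p G) :
    ∀ (n : ℕ) (G : Type u) [Group G] [Finite G], Nat.card G = n → ∀ M : Subgroup G,
      IsCoatom M → Group.IsNilpotent M → Φ M → Group.IsSolvable G := by
  intro n
  induction n using Nat.strong_induction_on with
  | _ n ih =>
  intro G _ _ hn M hmax hnil hΦ
  classical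
  by_cases hcf : NMCoreFree M
  · by_cases hM : M = ⊥
    · -- `G` is cyclic
      have hnt : ∃ x : G, x ≠ 1 := by
        by_contra hall
        push Not at hall
        apply hmax.1
        rw [eq_top_iff]
        intro x _
        rw [hall x]; exact one_mem _
      obtain ⟨x, hx⟩ := hnt
      have hz : Subgroup.zpowers x = ⊤ := by
        apply hmax.2
        rw [hM, bot_lt_iff_ne_bot]
        intro h
        exact hx (Subgroup.zpowers_eq_bot.mp h)
      haveI : IsCyclic G := (isCyclic_iff_exists_zpowers_eq_top).mpr ⟨x, hz⟩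
      exact Group.isSolvable_of_comm (fun a b => by
        letI : CommGroup G := IsCyclic.commGroup
        exact mul_comm a b)
    · exact nm_solvable_of_npc hmax hcf hnil hM
        (fun p _ hp => hcore G M hmax hcf hM hnil hΦ p hp)
  · unfold NMCoreFree at hcf
    push Not at hcf
    obtain ⟨N, hNn, hNM, hNne⟩ := hcf
    haveI := hNn
    haveI : Group.IsNilpotent M := hnil
    have hsurj : Function.Surjective ((QuotientGroup.mk' N).subgroupMap M) :=
      (QuotientGroup.mk' N).subgroupMap_surjective M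
    have hnil' : Group.IsNilpotent (M.map (QuotientGroup.mk' N)) :=
      Group.nilpotent_of_surjective _ hsurj
    have hΦ' : Φ (M.map (QuotientGroup.mk' N)) := hquot M _ _ hsurj hΦ
    have hlt : Nat.card (G ⧸ N) < n := hn ▸ card_quotient_lt hNne
    haveI : Group.IsSolvable (G ⧸ N) :=
      ih _ hlt (G ⧸ N) rfl _ (nm_isCoatom_map hmax hNM) hnil' hΦ'
    haveI : Group.IsSolvable N := isSolvable_of_le hNM
    exact Group.isSolvable_of_ker_le_range N.subtype (QuotientGroup.mk' N) (by simp)

end Cfsg.Agent.Lib.Helper1
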