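import Cfsg.Agent.Lib.Helper22.PTDefs
import Cfsg.Agent.Lib.Helper22.PTAux

/-!
# Project PT (helper22, S4705), piece SING

Sum of a class function over the `p`-singular elements: every `p`-singular element is
`x (z ^ t c) x⁻¹` (`t ≠ 0`, `c` central) for exactly `2 p |Z|` triples `(x, t, c)`.
-/

set_option autoImplicit false

namespace Cfsg.Agent.Lib.Helper1.PT

open Cfsg Cfsg.Agent.Lib.Helper22.BFD Cfsg.Agent.Lib.Helper22.PT
open scoped ComplexConjugate

universe u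

variable {G : Type u} [Group G] [Fintype G]

theorem sing_pow_mul (p : ℕ) [Fact p.Prime] (z : G) (hz : orderOf z = p) (a b : ZMod p) :
    (z ^ a.val) ^ b.val = z ^ (a * b).val := by
  rw [← pow_mul]
  apply aux_pow_congr p z hz
  push_cast
  rw [ZMod.natCast_zmod_val, ZMod.natCast_zmod_val, ZMod.natCast_zmod_val]

theorem sing_pow_neg (p : ℕ) [Fact p.Prime] (z : G) (hz : orderOf z = p) (a : ZMod p) :
    z ^ (-a).val = (z ^ a.val)⁻¹ := by
  rw [eq_inv_iff_mul_eq_one, ← pow_add]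
  have h0 : z ^ ((-a).val + a.val) = z ^ 0 := by
    apply aux_pow_congr p z hz
    push_cast
    rw [ZMod.natCast_zmod_val, ZMod.natCast_zmod_val, neg_add_cancel]
  rw [h0, pow_zero]

theorem sing_pow_one (p : ℕ) [Fact p.Prime] (z : G) (hz : orderOf z = p) :
    z ^ (1 : ZMod p).val = z := by
  have h0 : z ^ (1 : ZMod p).val = z ^ 1 := by
    apply aux_pow_congr p z hz
    push_cast
    rw [ZMod.natCast_zmod_val]
  rw [h0, pow_one]

theorem sing_gen (p : ℕ) [Fact p.Prime] (z : G) (hz : orderOf z = p) (t : ZMod p)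
    (ht : t ≠ 0) : (z ^ t.val) ^ (t⁻¹).val = z := by
  rw [sing_pow_mul p z hz, mul_inv_cancel₀ ht, sing_pow_one p z hz]

theorem sing_cen_p (p : ℕ) [Fact p.Prime] (z : G) (ζ : G → ℂ) (h : Hyp G p z ζ)
    (hl : Loc G p z ζ) (c : G) (hc : c ∈ Subgroup.center G) (hcp : c ^ p = 1) : c = 1 := by
  by_contra hne
  have ho : orderOf c = p := orderOf_eq_prime hcp hne
  obtain ⟨x, t, ht, c', hc', hx⟩ := psd p z ζ h hl c (by rw [ho])
  have hcx : x⁻¹ * c * x = c := by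
    have h1 := Subgroup.mem_center_iff.1 hc x
    rw [mul_assoc, ← h1, ← mul_assoc, inv_mul_cancel, one_mul]
  have h2 : x⁻¹ * c * x = z ^ t.val * c' := by
    calc x⁻¹ * c * x = x⁻¹ * (x * (z ^ t.val * c') * x⁻¹) * x := by rw [← hx]
      _ = z ^ t.val * c' := by group
  have h3 : z ^ t.val = c * c'⁻¹ := by
    rw [← hcx, h2]
    group
  apply aux_znc p z ζ h t ht
  rw [h3]
  exact Subgroup.mul_mem _ hc (Subgroup.inv_mem _ hc')

theorem sing_dvd (p : ℕ) [Fact p.Prime] (z : G) (ζ : G → ℂ) (h : Hyp G p z ζ) (t : ZMod p)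
    (ht : t ≠ 0) (c : G) (hc : c ∈ Subgroup.center G) (x : G) :
    p ∣ orderOf (x * (z ^ t.val * c) * x⁻¹) := by
  by_contra hnd
  have h1 : (x * (z ^ t.val * c) * x⁻¹) ^ orderOf (x * (z ^ t.val * c) * x⁻¹) = 1 :=
    pow_orderOf_eq_one _
  generalize orderOf (x * (z ^ t.val * c) * x⁻¹) = m at hnd h1
  rw [conj_pow] at h1
  have h2 : (z ^ t.val * c) ^ m = 1 := by
    calc (z ^ t.val * c) ^ m = x⁻¹ * (x * (z ^ t.val * c) ^ m * x⁻¹) * x := by group
      _ = 1 := by rw [h1]; group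
  have hcomm : Commute (z ^ t.val) c := Subgroup.mem_center_iff.1 hc (z ^ t.val)
  rw [hcomm.mul_pow] at h2
  have hm0 : (m : ZMod p) ≠ 0 := by
    intro h0
    exact hnd ((ZMod.natCast_eq_zero_iff m p).1 h0)
  apply aux_znc p z ζ h (t * (m : ZMod p)) (mul_ne_zero ht hm0)
  have h3 : z ^ (t * (m : ZMod p)).val = (z ^ t.val) ^ m := by
    rw [← pow_mul]
    apply aux_pow_congr p z h.ord
    push_cast
    rw [ZMod.natCast_zmod_val, ZMod.natCast_zmod_val]
  rw [h3, eq_inv_of_mul_eq_one_left h2]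
  exact Subgroup.inv_mem _ (Subgroup.pow_mem _ hc m)

omit [Fintype G] in
theorem sing_conj_cen (c : G) (hc : c ∈ Subgroup.center G) (x a : G) :
    x * (a * c) * x⁻¹ = x * a * x⁻¹ * c := by
  have h1 := Subgroup.mem_center_iff.1 hc x⁻¹
  calc x * (a * c) * x⁻¹ = x * a * (c * x⁻¹) := by group
    _ = x * a * (x⁻¹ * c) := by rw [h1]
    _ = x * a * x⁻¹ * c := by group

theorem sing_comm_z (p : ℕ) [Fact p.Prime] (z : G) (hz : orderOf z = p) (t : ZMod p)
    (ht : t ≠ 0) (y : G) (hy : y * z ^ t.val * y⁻¹ = z ^ t.val) :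
    y ∈ Subgroup.centralizer ({z} : Set G) := by
  rw [Subgroup.mem_centralizer_iff]
  intro g hg
  rw [Set.mem_singleton_iff] at hg
  rw [hg]
  have h1 : Commute y (z ^ t.val) := by
    show y * z ^ t.val = z ^ t.val * y
    calc y * z ^ t.val = y * z ^ t.val * y⁻¹ * y := by group
      _ = z ^ t.val * y := by rw [hy]
  have h2 : Commute y ((z ^ t.val) ^ (t⁻¹).val) := h1.pow_right _
  rw [sing_gen p z hz t ht] at h2
  exact h2.eq.symm

omit [Fintype G] in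
theorem sing_conj_of_mem (p : ℕ) [Fact p.Prime] (z : G) (y : G)
    (hy : y ∈ Subgroup.centralizer ({z} : Set G)) (k : ℕ) : y * z ^ k * y⁻¹ = z ^ k := by
  rw [Subgroup.mem_centralizer_iff] at hy
  have h1 : Commute y z := (hy z (Set.mem_singleton z)).symm
  have h2 : y * z ^ k = z ^ k * y := (h1.pow_right k).eq
  rw [h2]
  group

theorem sing_iff (p : ℕ) [Fact p.Prime] (z : G) (ζ : G → ℂ) (h : Hyp G p z ζ)
    (hl : Loc G p z ζ) (n : G) (hn : n * z * n⁻¹ = z⁻¹) (x₀ : G) (t₀ : ZMod p) (ht₀ : t₀ ≠ 0)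
    (c₀ : G) (hc₀ : c₀ ∈ Subgroup.center G) (x : G) (t : ZMod p) (c : G) :
    ((t ≠ 0 ∧ c ∈ Subgroup.center G) ∧
        x * (z ^ t.val * c) * x⁻¹ = x₀ * (z ^ t₀.val * c₀) * x₀⁻¹) ↔
      (c = c₀ ∧ ((t = t₀ ∧ x₀⁻¹ * x ∈ Subgroup.centralizer ({z} : Set G)) ∨
        (t = -t₀ ∧ x₀⁻¹ * x * n ∈ Subgroup.centralizer ({z} : Set G)))) := by
  have hzp : z ^ p = 1 := by
    rw [← h.ord]
    exact pow_orderOf_eq_one z
  -- n inverts the powers of z
  have hnk : ∀ k : ℕ, n * z ^ k * n⁻¹ = (z ^ k)⁻¹ := by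
    intro k
    rw [← conj_pow, hn, inv_pow]
  constructor
  · rintro ⟨⟨ht, hc⟩, heq⟩
    have hy : (x₀⁻¹ * x) * z ^ t.val * (x₀⁻¹ * x)⁻¹ * c = z ^ t₀.val * c₀ := by
      rw [← sing_conj_cen c hc]
      calc (x₀⁻¹ * x) * (z ^ t.val * c) * (x₀⁻¹ * x)⁻¹
          = x₀⁻¹ * (x * (z ^ t.val * c) * x⁻¹) * x₀ := by group
        _ = x₀⁻¹ * (x₀ * (z ^ t₀.val * c₀) * x₀⁻¹) * x₀ := by rw [heq]
        _ = z ^ t₀.val * c₀ := by group
    generalize x₀⁻¹ * x = y at hy ⊢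
    have hy2 : y * z ^ t.val * y⁻¹ = z ^ t₀.val * (c₀ * c⁻¹) := by
      calc y * z ^ t.val * y⁻¹ = y * z ^ t.val * y⁻¹ * c * c⁻¹ := by group
        _ = z ^ t₀.val * c₀ * c⁻¹ := by rw [hy]
        _ = z ^ t₀.val * (c₀ * c⁻¹) := by group
    have hc' : c₀ * c⁻¹ ∈ Subgroup.center G := Subgroup.mul_mem _ hc₀ (Subgroup.inv_mem _ hc)
    have hcp : (c₀ * c⁻¹) ^ p = 1 := by
      have h1 : (y * z ^ t.val * y⁻¹) ^ p = 1 := by
        rw [conj_pow, ← pow_mul, mul_comm, pow_mul, hzp, one_pow]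
        group
      rw [hy2] at h1
      have hcomm : Commute (z ^ t₀.val) (c₀ * c⁻¹) :=
        Subgroup.mem_center_iff.1 hc' (z ^ t₀.val)
      rw [hcomm.mul_pow, ← pow_mul, mul_comm, pow_mul, hzp, one_pow, one_mul] at h1
      exact h1
    have hc1 : c₀ * c⁻¹ = 1 := sing_cen_p p z ζ h hl _ hc' hcp
    have hcc : c = c₀ := by
      have h1 : c₀ = c₀ * c⁻¹ * c := by group
      rw [hc1, one_mul] at h1
      exact h1.symm
    rw [hc1, mul_one] at hy2
    refine ⟨hcc, ?_⟩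
    -- t = ± t₀
    have hconj : IsConj (z ^ (t * t₀⁻¹).val) z := by
      rw [isConj_iff]
      refine ⟨y, ?_⟩
      rw [← sing_pow_mul p z h.ord, ← conj_pow, hy2, sing_gen p z h.ord t₀ ht₀]
    have hts := hl.cnj (t * t₀⁻¹) hconj
    have htt : t = t * t₀⁻¹ * t₀ := by
      rw [mul_assoc, inv_mul_cancel₀ ht₀, mul_one]
    rcases hts with h1 | h1
    · left
      have ht' : t = t₀ := by
        rw [htt, h1, one_mul]
      subst ht'
      exact ⟨rfl, sing_comm_z p z h.ord t ht y hy2⟩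
    · right
      have ht' : t = -t₀ := by
        rw [htt, h1, neg_one_mul]
      subst ht'
      refine ⟨rfl, ?_⟩
      rw [sing_pow_neg p z h.ord] at hy2
      apply sing_comm_z p z h.ord t₀ ht₀
      calc y * n * z ^ t₀.val * (y * n)⁻¹ = y * (n * z ^ t₀.val * n⁻¹) * y⁻¹ := by group
        _ = y * (z ^ t₀.val)⁻¹ * y⁻¹ := by rw [hnk]
        _ = z ^ t₀.val := hy2
  · rintro ⟨rfl, hcase⟩
    rcases hcase with ⟨rfl, hy⟩ | ⟨rfl, hy⟩
    · refine ⟨⟨ht₀, hc₀⟩, ?_⟩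
      rw [sing_conj_cen c hc₀, sing_conj_cen c hc₀]
      congr 1
      calc x * z ^ t.val * x⁻¹ = x₀ * ((x₀⁻¹ * x) * z ^ t.val * (x₀⁻¹ * x)⁻¹) * x₀⁻¹ := by
            group
        _ = x₀ * z ^ t.val * x₀⁻¹ := by rw [sing_conj_of_mem p z _ hy]
    · refine ⟨⟨neg_ne_zero.2 ht₀, hc₀⟩, ?_⟩
      rw [sing_conj_cen c hc₀, sing_conj_cen c hc₀]
      congr 1
      rw [sing_pow_neg p z h.ord, ← hnk]
      calc x * (n * z ^ t₀.val * n⁻¹) * x⁻¹
          = x₀ * ((x₀⁻¹ * x * n) * z ^ t₀.val * (x₀⁻¹ * x * n)⁻¹) * x₀⁻¹ := by group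
        _ = x₀ * z ^ t₀.val * x₀⁻¹ := by rw [sing_conj_of_mem p z _ hy]

theorem sing_card (C : Subgroup G) [DecidablePred (· ∈ C)] :
    ∑ y : G, (if y ∈ C then (1 : ℂ) else 0) = (Nat.card C : ℂ) := by
  rw [Finset.sum_boole, Nat.card_eq_fintype_card, Fintype.card_subtype]

theorem sing_card_left (C : Subgroup G) [DecidablePred (· ∈ C)] (x₀ : G) :
    ∑ x : G, (if x₀⁻¹ * x ∈ C then (1 : ℂ) else 0) = (Nat.card C : ℂ) := by
  rw [← sing_card C]
  exact (Fintype.sum_equiv (Equiv.mulLeft x₀) (fun y => if y ∈ C then (1 : ℂ) else 0)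
    (fun x => if x₀⁻¹ * x ∈ C then (1 : ℂ) else 0) (by intro y; simp)).symm

theorem sing_card_right (C : Subgroup G) [DecidablePred (· ∈ C)] (x₀ n : G) :
    ∑ x : G, (if x₀⁻¹ * x * n ∈ C then (1 : ℂ) else 0) = (Nat.card C : ℂ) := by
  rw [← sing_card C]
  exact (Fintype.sum_equiv ((Equiv.mulLeft x₀).trans (Equiv.mulRight n⁻¹))
    (fun y => if y ∈ C then (1 : ℂ) else 0)
    (fun x => if x₀⁻¹ * x * n ∈ C then (1 : ℂ) else 0) (by intro y; simp [mul_assoc])).symm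

theorem sing_neg_ne (p : ℕ) [Fact p.Prime] (hp5 : 5 < p) (t₀ : ZMod p) (ht₀ : t₀ ≠ 0) :
    t₀ ≠ -t₀ := by
  intro h0
  have h5 : t₀ + -t₀ = 0 := add_neg_cancel t₀
  rw [← h0] at h5
  have h2 : (2 : ZMod p) * t₀ = 0 := by
    rw [two_mul]
    exact h5
  rcases mul_eq_zero.1 h2 with h3 | h3
  · have h4 : ((2 : ℕ) : ZMod p) = 0 := by exact_mod_cast h3
    rw [ZMod.natCast_eq_zero_iff] at h4
    have := Nat.le_of_dvd (by norm_num) h4
    omega
  · exact ht₀ h3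

open Classical in
theorem sing_count (p : ℕ) [Fact p.Prime] (z : G) (ζ : G → ℂ) (h : Hyp G p z ζ)
    (hl : Loc G p z ζ) (g : G) :
    ∑ x : G, ∑ t : ZMod p, ∑ c : G,
      (if (t ≠ 0 ∧ c ∈ Subgroup.center G) ∧ x * (z ^ t.val * c) * x⁻¹ = g then (1 : ℂ) else 0) =
      if p ∣ orderOf g then 2 * (Nat.card (Subgroup.centralizer ({z} : Set G)) : ℂ) else 0 := by
  obtain ⟨n, hn⟩ := hl.inv
  split_ifs with hg
  · obtain ⟨x₀, t₀, ht₀, c₀, hc₀, rfl⟩ := psd p z ζ h hl g hg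
    have hne : t₀ ≠ -t₀ := sing_neg_ne p h.p5 t₀ ht₀
    have hterm : ∀ (x : G) (t : ZMod p) (c : G),
        (if (t ≠ 0 ∧ c ∈ Subgroup.center G) ∧
            x * (z ^ t.val * c) * x⁻¹ = x₀ * (z ^ t₀.val * c₀) * x₀⁻¹ then (1 : ℂ) else 0) =
        (if c = c₀ then
          ((if t = t₀ then
              (if x₀⁻¹ * x ∈ Subgroup.centralizer ({z} : Set G) then (1 : ℂ) else 0) else 0) +
            (if t = -t₀ then
              (if x₀⁻¹ * x * n ∈ Subgroup.centralizer ({z} : Set G) then (1 : ℂ) else 0)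
              else 0)) else 0) := by
      intro x t c
      rw [if_congr (sing_iff p z ζ h hl n hn x₀ t₀ ht₀ c₀ hc₀ x t c) rfl rfl]
      by_cases hc : c = c₀
      · by_cases h1 : t = t₀
        · have h2 : ¬ t = -t₀ := by
            rw [h1]
            exact hne
          simp [hc, h1, h2, hne]
        · by_cases h2 : t = -t₀
          · simp [hc, h1, h2, hne.symm]
          · simp [hc, h1, h2]
      · simp [hc]
    simp_rw [hterm]
    simp only [Finset.sum_ite_eq', Finset.mem_univ, if_true, Finset.sum_add_distrib]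
    rw [sing_card_left, sing_card_right]
    ring
  · apply Finset.sum_eq_zero
    intro x _
    apply Finset.sum_eq_zero
    intro t _
    apply Finset.sum_eq_zero
    intro c _
    rw [if_neg]
    rintro ⟨⟨ht, hc⟩, rfl⟩
    exact hg (sing_dvd p z ζ h t ht c hc x)

theorem sing (p : ℕ) [Fact p.Prime] (z : G) (ζ : G → ℂ) (h : Hyp G p z ζ) (hl : Loc G p z ζ) :
    Sing p z := by
  classical
  intro F hF
  have hp : p.Prime := Fact.out
  set R : ℂ := ∑ t : ZMod p, ∑ c : G,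
    (if t ≠ 0 ∧ c ∈ Subgroup.center G then F (z ^ t.val * c) else 0) with hR
  set S : ℂ := ∑ g : G, (if p ∣ orderOf g then F g else 0) with hS
  -- first evaluation
  have h1 : ∑ x : G, ∑ t : ZMod p, ∑ c : G,
      (if t ≠ 0 ∧ c ∈ Subgroup.center G then F (x * (z ^ t.val * c) * x⁻¹) else 0) =
      (Nat.card G : ℂ) * R := by
    simp_rw [hF]
    rw [Finset.sum_const, Finset.card_univ, nsmul_eq_mul, Nat.card_eq_fintype_card]
  -- second evaluation
  have hpt : ∀ (x : G) (t : ZMod p) (c : G),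
      (if t ≠ 0 ∧ c ∈ Subgroup.center G then F (x * (z ^ t.val * c) * x⁻¹) else 0) =
      ∑ g : G, F g * (if (t ≠ 0 ∧ c ∈ Subgroup.center G) ∧ x * (z ^ t.val * c) * x⁻¹ = g
        then (1 : ℂ) else 0) := by
    intro x t c
    by_cases hT : t ≠ 0 ∧ c ∈ Subgroup.center G
    · rw [if_pos hT]
      have h0 : ∀ g : G, (if (t ≠ 0 ∧ c ∈ Subgroup.center G) ∧ x * (z ^ t.val * c) * x⁻¹ = g
          then (1 : ℂ) else 0) = if x * (z ^ t.val * c) * x⁻¹ = g then 1 else 0 := by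
        intro g
        rw [if_congr (and_iff_right hT) rfl rfl]
      simp_rw [h0]
      simp
    · rw [if_neg hT]
      have h0 : ∀ g : G, (if (t ≠ 0 ∧ c ∈ Subgroup.center G) ∧ x * (z ^ t.val * c) * x⁻¹ = g
          then (1 : ℂ) else 0) = 0 := by
        intro g
        rw [if_neg]
        exact fun h' => hT h'.1
      simp_rw [h0]
      simp
  have h2 : ∑ x : G, ∑ t : ZMod p, ∑ c : G,
      (if t ≠ 0 ∧ c ∈ Subgroup.center G then F (x * (z ^ t.val * c) * x⁻¹) else 0) =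
      2 * (Nat.card (Subgroup.centralizer ({z} : Set G)) : ℂ) * S := by
    simp_rw [hpt]
    have hswap : ∀ a : G → ZMod p → G → G → ℂ,
        ∑ x : G, ∑ t : ZMod p, ∑ c : G, ∑ g : G, a x t c g =
        ∑ g : G, ∑ x : G, ∑ t : ZMod p, ∑ c : G, a x t c g := by
      intro a
      calc ∑ x : G, ∑ t : ZMod p, ∑ c : G, ∑ g : G, a x t c g
          = ∑ x : G, ∑ t : ZMod p, ∑ g : G, ∑ c : G, a x t c g :=
            Finset.sum_congr rfl (fun x _ => Finset.sum_congr rfl (fun t _ => Finset.sum_comm))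
        _ = ∑ x : G, ∑ g : G, ∑ t : ZMod p, ∑ c : G, a x t c g :=
            Finset.sum_congr rfl (fun x _ => Finset.sum_comm)
        _ = ∑ g : G, ∑ x : G, ∑ t : ZMod p, ∑ c : G, a x t c g := Finset.sum_comm
    rw [hswap]
    simp_rw [← Finset.mul_sum]
    simp_rw [sing_count p z ζ h hl]
    rw [hS, Finset.mul_sum]
    apply Finset.sum_congr rfl
    intro g _
    split_ifs <;> ring
  have h3 : (Nat.card G : ℂ) * R =
      2 * (Nat.card (Subgroup.centralizer ({z} : Set G)) : ℂ) * S := by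
    rw [← h1, h2]
  rw [ccard p z ζ h hl] at h3
  push_cast at h3
  have hp0 : (p : ℂ) ≠ 0 := Nat.cast_ne_zero.2 hp.ne_zero
  have hZ0 : (Nat.card (Subgroup.center G) : ℂ) ≠ 0 := Nat.cast_ne_zero.2 Nat.card_pos.ne'
  show S = (Nat.card G : ℂ) / (2 * (p : ℂ) * (Nat.card (Subgroup.center G) : ℂ)) * R
  field_simp
  rw [h3]
  ring

end Cfsg.Agent.Lib.Helper1.PT
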